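import Cfsg.Agent.Char.Induction

/-!
# Column orthogonality, kernels, inflation, Brauer's permutation lemma
-/

set_option autoImplicit false
set_option linter.unusedSectionVars false

namespace Cfsg.Agent.Char

open Cfsg
open scoped ComplexConjugate

universe u v w

section Columns

variable {G : Type u} [Group G]

theorem card_conj_eq_of_isConj {g h : G} (hgh : IsConj g h) :
    Nat.card {x : G // x⁻¹ * g * x = h} = Nat.card (Subgroup.centralizer ({g} : Set G)) := by
  obtain ⟨c, rfl⟩ := isConj_iff.1 hgh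
  refine Nat.card_congr ⟨fun x => ⟨x.1 * c, ?_⟩, fun y => ⟨y.1 * c⁻¹, ?_⟩, ?_, ?_⟩
  · rw [Subgroup.mem_centralizer_singleton_iff]
    have := x.2
    calc x.1 * c * g = x.1 * (c * g * c⁻¹) * c := by group
      _ = x.1 * (x.1⁻¹ * g * x.1) * c := by rw [this]
      _ = g * (x.1 * c) := by group
  · have := Subgroup.mem_centralizer_singleton_iff.1 y.2
    calc (y.1 * c⁻¹)⁻¹ * g * (y.1 * c⁻¹) = c * (y.1⁻¹ * (g * y.1)) * c⁻¹ := by group
      _ = c * g * c⁻¹ := by rw [← this]; group
  · intro x; simp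
  · intro y; simp

theorem card_conj_eq_zero_of_not_isConj {g h : G} (hgh : ¬ IsConj g h) :
    Nat.card {x : G // x⁻¹ * g * x = h} = 0 := by
  have : IsEmpty {x : G // x⁻¹ * g * x = h} :=
    ⟨fun x => hgh (isConj_iff.2 ⟨x.1⁻¹, by simpa using x.2⟩)⟩
  exact Nat.card_of_isEmpty

theorem natCard_subtype_eq_sum_ite {X : Type*} [Fintype X] (P : X → Prop) [DecidablePred P]
    (R : Type*) [Semiring R] : (Nat.card {x // P x} : R) = ∑ x : X, if P x then 1 else 0 := by
  rw [Nat.card_eq_fintype_card, Fintype.card_subtype, Finset.sum_boole]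

/-- Column orthogonality. -/
theorem sum_irr_mul_conj [Finite G] (g h : G) :
    ∑ χ ∈ Irr G, χ g * conj (χ h) = Nat.card {x : G // x⁻¹ * g * x = h} := by
  classical
  have := Fintype.ofFinite G
  let F : G → ℂ := fun g => ∑ x : G, if x⁻¹ * g * x = h then 1 else 0
  have hF : IsClassFunction G F := by
    intro g y
    refine Fintype.sum_equiv (Equiv.mulLeft y⁻¹) _ _ fun x => ?_
    have : (y⁻¹ * x)⁻¹ * g * (y⁻¹ * x) = x⁻¹ * (y * g * y⁻¹) * x := by group
    rw [Equiv.coe_mulLeft, this]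
  have key : ∀ χ ∈ Irr G, ⟪F, χ⟫ = conj (χ h) := by
    intro χ hχ
    have hc := (mem_Irr.1 hχ).isClassFunction
    simp only [ci_def, F, Finset.sum_mul]
    rw [Finset.sum_comm]
    have : ∀ x : G, ∑ g : G, (if x⁻¹ * g * x = h then (1 : ℂ) else 0) * conj (χ g) =
        conj (χ h) := by
      intro x
      rw [Finset.sum_eq_single (x * h * x⁻¹)]
      · rw [if_pos (by group), hc, one_mul]
      · intro b _ hb
        rw [if_neg, zero_mul]
        intro e; apply hb; rw [← e]; group
      · simp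
    simp only [this, Finset.sum_const, Finset.card_univ, ← Nat.card_eq_fintype_card, nsmul_eq_mul]
    rw [← mul_assoc, inv_mul_cancel₀ (card_ne_zero_complex G), one_mul]
  rw [natCard_subtype_eq_sum_ite]
  change _ = F g
  rw [hF.apply_eq_sum_irr]
  exact Finset.sum_congr rfl fun χ hχ => by rw [key χ hχ, mul_comm]

theorem sum_irr_mul_conj_of_isConj [Finite G] {g h : G} (hgh : IsConj g h) :
    ∑ χ ∈ Irr G, χ g * conj (χ h) = Nat.card (Subgroup.centralizer ({g} : Set G)) := by
  rw [sum_irr_mul_conj, card_conj_eq_of_isConj hgh]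

theorem sum_irr_mul_conj_of_not_isConj [Finite G] {g h : G} (hgh : ¬ IsConj g h) :
    ∑ χ ∈ Irr G, χ g * conj (χ h) = 0 := by
  rw [sum_irr_mul_conj, card_conj_eq_zero_of_not_isConj hgh, Nat.cast_zero]

theorem sum_irr_norm_sq [Finite G] (g : G) :
    ∑ χ ∈ Irr G, ‖χ g‖ ^ 2 = Nat.card (Subgroup.centralizer ({g} : Set G)) := by
  have := sum_irr_mul_conj_of_isConj (IsConj.refl g)
  simp only [Complex.mul_conj, Complex.normSq_eq_norm_sq] at this
  exact_mod_cast this

theorem isConj_of_irr_eq [Finite G] {g h : G} (H : ∀ χ, IsIrrCharacter G χ → χ g = χ h) :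
    IsConj g h := by
  by_contra hc
  have h1 := sum_irr_mul_conj_of_not_isConj hc
  have h2 := sum_irr_mul_conj_of_isConj (IsConj.refl h)
  rw [Finset.sum_congr rfl (fun χ hχ => by rw [H χ (mem_Irr.1 hχ)]), h2] at h1
  exact card_ne_zero_complex _ h1

theorem sum_irr_degree_mul [Finite G] (g : G) [Decidable (g = 1)] :
    ∑ χ ∈ Irr G, χ 1 * χ g = if g = 1 then (Nat.card G : ℂ) else 0 := by
  have : ∑ χ ∈ Irr G, χ 1 * χ g = ∑ χ ∈ Irr G, χ g * conj (χ 1) :=
    Finset.sum_congr rfl fun χ hχ => by rw [(mem_Irr.1 hχ).isCharacter.conj_one, mul_comm]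
  rw [this]
  split_ifs with h
  · subst h
    rw [sum_irr_mul_conj_of_isConj (IsConj.refl 1)]
    congr 1
    have : Subgroup.centralizer ({1} : Set G) = ⊤ := by
      ext x; simp [Subgroup.mem_centralizer_singleton_iff]
    rw [this, Subgroup.card_top]
  · exact sum_irr_mul_conj_of_not_isConj (by simpa using h)

theorem sum_irr_degree_sq (G : Type u) [Group G] [Finite G] :
    ∑ χ ∈ Irr G, χ 1 ^ 2 = (Nat.card G : ℂ) := by
  classical
  have := sum_irr_degree_mul (1 : G)
  simpa [sq] using this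

theorem exists_irr_apply_ne [Finite G] {g : G} (hg : g ≠ 1) :
    ∃ χ, IsIrrCharacter G χ ∧ χ g ≠ χ 1 := by
  by_contra hcon
  push Not at hcon
  exact hg (isConj_one_left.1 (isConj_of_irr_eq hcon))

theorem _root_.Cfsg.IsIrrCharacter.sum_conj_mul [Fintype G] {χ : G → ℂ} (hχ : IsIrrCharacter G χ)
    (g h : G) : χ 1 * ∑ x : G, χ (x * g * x⁻¹ * h) = Nat.card G * (χ g * χ h) := by
  classical
  let F : G → ℂ := fun y => ∑ x : G, if x * g * x⁻¹ = y then 1 else 0
  have hF : IsClassFunction G F := by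
    intro a y
    refine Fintype.sum_equiv (Equiv.mulLeft y⁻¹) _ _ fun x => ?_
    rw [Equiv.coe_mulLeft]
    refine if_congr ⟨fun e => ?_, fun e => ?_⟩ rfl rfl
    · calc y⁻¹ * x * g * (y⁻¹ * x)⁻¹ = y⁻¹ * (x * g * x⁻¹) * y := by group
        _ = a := by rw [e]; group
    · rw [← e]; group
  have key : ∀ φ : G → ℂ, ∑ y : G, F y * φ y = ∑ x : G, φ (x * g * x⁻¹) := by
    intro φ
    simp only [F, Finset.sum_mul]
    rw [Finset.sum_comm]
    refine Finset.sum_congr rfl fun x _ => ?_
    simp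
  have h1 := hχ.sum_class_mul hF h
  rw [key (fun y => χ (y * h)), key χ] at h1
  rw [h1]
  simp only [hχ.isClassFunction g, Finset.sum_const, Finset.card_univ,
    ← Nat.card_eq_fintype_card, nsmul_eq_mul]
  ring

/-- On an element that is central modulo the kernel, an irreducible character is multiplicative
up to the degree. -/
theorem _root_.Cfsg.IsIrrCharacter.mul_of_conj_eq [Finite G] {χ : G → ℂ}
    (hχ : IsIrrCharacter G χ) {g h : G} (H : ∀ x : G, χ (x * g * x⁻¹ * h) = χ (g * h)) :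
    χ 1 * χ (g * h) = χ g * χ h := by
  have := Fintype.ofFinite G
  have h1 := hχ.sum_conj_mul g h
  simp only [H, Finset.sum_const, Finset.card_univ, ← Nat.card_eq_fintype_card,
    nsmul_eq_mul] at h1
  apply mul_left_cancel₀ (card_ne_zero_complex G)
  rw [← h1]; ring

theorem _root_.Cfsg.IsIrrCharacter.mul_of_central [Finite G] {χ : G → ℂ}
    (hχ : IsIrrCharacter G χ) {z : G} (hz : ∀ x : G, x * z = z * x) (h : G) :
    χ 1 * χ (z * h) = χ z * χ h :=
  hχ.mul_of_conj_eq fun x => by rw [hz x, mul_inv_cancel_right]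

end Columns

/-! ### Kernels -/

section Kernel

variable {G : Type u} [Group G]

/-- The kernel of a function on a group: the elements leaving it invariant under left
translation.  For a character this is the usual kernel. -/
def chKer (χ : G → ℂ) : Subgroup G where
  carrier := {g | ∀ h, χ (g * h) = χ h}
  one_mem' := by simp
  mul_mem' := by
    intro a b ha hb h
    rw [mul_assoc, ha, hb]
  inv_mem' := by
    intro a ha h
    rw [← ha (a⁻¹ * h), mul_inv_cancel_left]

theorem mem_chKer {χ : G → ℂ} {g : G} : g ∈ chKer χ ↔ ∀ h, χ (g * h) = χ h := Iff.rfl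

theorem chKer_normal {χ : G → ℂ} (hχ : IsClassFunction G χ) : (chKer χ).Normal := by
  refine ⟨fun n hn g h => ?_⟩
  have : g * n * g⁻¹ * h = g * (n * (g⁻¹ * h * g)) * g⁻¹ := by group
  rw [this, hχ, hn, hχ.conj']

theorem apply_eq_of_mem_chKer {χ : G → ℂ} {g : G} (hg : g ∈ chKer χ) : χ g = χ 1 := by
  simpa using hg 1

variable [Finite G]

theorem eigenvalues_eq_one {s : Multiset ℂ} (hs : ∀ z ∈ s, ‖z‖ = 1)
    (h : s.sum.re = Multiset.card s) : ∀ z ∈ s, z = 1 := by
  induction s using Multiset.induction_on with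
  | empty => simp
  | cons a s ih =>
    have ha := hs a (Multiset.mem_cons_self a s)
    have hs' : ∀ z ∈ s, ‖z‖ = 1 := fun z hz => hs z (Multiset.mem_cons_of_mem hz)
    have h1 : a.re ≤ 1 := ha ▸ Complex.re_le_norm a
    have h2 : s.sum.re ≤ Multiset.card s := by
      refine (Complex.re_le_norm _).trans ((norm_multiset_sum_le s).trans ?_)
      rw [Multiset.map_congr rfl hs']; simp
    simp only [Multiset.sum_cons, Complex.add_re, Multiset.card_cons, Nat.cast_add,
      Nat.cast_one] at h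
    have h3 : a.re = 1 := by linarith
    have h4 : a = 1 := by
      have h5 := Complex.sq_norm a
      rw [ha, Complex.normSq_apply, h3] at h5
      apply Complex.ext h3
      have : a.im * a.im = 0 := by linarith
      simpa using this
    intro z hz
    rcases Multiset.mem_cons.1 hz with rfl | hz
    · exact h4
    · exact ih hs' (by linarith) z hz

theorem rep_eq_one_of_character {n : ℕ} (ρ : Representation ℂ G (Fin n → ℂ)) {g : G}
    (h : (ρ.character g).re = (ρ.character 1).re) : ρ g = 1 := by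
  have hχ : IsCharacter G ρ.character := ⟨n, ρ, rfl⟩
  obtain ⟨s, hs, hs'⟩ := hχ.exists_eigenvalues g
  have h1 := hs' 1
  have h0 := hs' 0
  simp only [zpow_one, zpow_zero, Multiset.map_const', Multiset.sum_replicate, nsmul_eq_mul,
    mul_one, Multiset.map_id'] at h1 h0
  have h2 := eigenvalues_eq_one (s := s)
    (fun z hz => norm_eq_one_of_pow_eq_one (orderOf_pos g).ne' (hs z hz))
    (by rw [← h1, h, h0]; simp)
  have h3 : ∀ k : ℤ, ρ.character (g ^ k) = n := by
    intro k
    rw [hs', Multiset.map_congr (g := fun _ => 1) rfl (fun z hz => by rw [h2 z hz, one_zpow])]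
    simp [← h0]
  let Z := Subgroup.zpowers g
  have := Fintype.ofFinite Z
  have : Invertible (Nat.card Z : ℂ) := invertibleOfNonzero (card_ne_zero_complex Z)
  let σ : Representation ℂ Z (Fin n → ℂ) := ρ.comp Z.subtype
  have h4 := σ.card_inv_mul_sum_char_eq_finrank
  have h5 : ∀ z : Z, σ.character z = n := by
    rintro ⟨z, k, rfl⟩; exact h3 k
  simp only [h5, Finset.sum_const, Finset.card_univ, ← Nat.card_eq_fintype_card,
    nsmul_eq_mul] at h4
  rw [← mul_assoc, inv_mul_cancel₀ (card_ne_zero_complex Z), one_mul] at h4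
  have h6 : σ.invariants = ⊤ := by
    apply Submodule.eq_top_of_finrank_eq
    simp only [Module.finrank_fintype_fun_eq_card, Fintype.card_fin]
    exact_mod_cast h4.symm
  ext1 v
  exact LinearMap.ext fun c => (h6 ▸ Submodule.mem_top : _ ∈ σ.invariants) ⟨g, Subgroup.mem_zpowers g⟩

theorem _root_.Cfsg.IsCharacter.mem_chKer_of_re {χ : G → ℂ} (hχ : IsCharacter G χ) {g : G}
    (h : (χ g).re = (χ 1).re) : g ∈ chKer χ := by
  obtain ⟨n, ρ, rfl⟩ := hχ
  intro x
  simp only [Representation.character, map_mul, rep_eq_one_of_character ρ h, one_mul]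

theorem _root_.Cfsg.IsCharacter.mem_chKer_iff {χ : G → ℂ} (hχ : IsCharacter G χ) {g : G} :
    g ∈ chKer χ ↔ χ g = χ 1 :=
  ⟨apply_eq_of_mem_chKer, fun h => hχ.mem_chKer_of_re (by rw [h])⟩

theorem _root_.Cfsg.IsCharacter.mul_of_apply_eq {χ : G → ℂ} (hχ : IsCharacter G χ) {g : G}
    (h : χ g = χ 1) (x : G) : χ (g * x) = χ x := hχ.mem_chKer_iff.2 h x

theorem _root_.Cfsg.IsCharacter.re_le {χ : G → ℂ} (hχ : IsCharacter G χ) (g : G) :
    (χ g).re ≤ (χ 1).re := by
  obtain ⟨n, hn⟩ := hχ.exists_degree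
  have := hχ.norm_le g
  rw [hn] at this ⊢
  simpa using (Complex.re_le_norm _).trans this

theorem _root_.Cfsg.IsCharacter.apply_eq_of_add {χ ψ : G → ℂ} (hχ : IsCharacter G χ)
    (hψ : IsCharacter G ψ) {g : G} (h : (χ + ψ) g = (χ + ψ) 1) : χ g = χ 1 := by
  apply apply_eq_of_mem_chKer (hχ.mem_chKer_of_re _)
  have := congrArg Complex.re h
  simp only [Pi.add_apply, Complex.add_re] at this
  linarith [hχ.re_le g, hψ.re_le g]

/-- The kernel of a character lies in the kernel of each constituent. -/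
theorem _root_.Cfsg.IsCharacter.apply_eq_of_ci_ne_zero [Fintype G] {φ χ : G → ℂ}
    (hφ : IsCharacter G φ) (hχ : IsIrrCharacter G χ) (hne : ⟪φ, χ⟫ ≠ 0) {g : G}
    (h : φ g = φ 1) : χ g = χ 1 :=
  hχ.isCharacter.apply_eq_of_add (hφ.sub_irr hχ hne) (by simpa using h)

theorem _root_.Cfsg.IsCharacter.degree_le_of_ci_ne_zero [Fintype G] {φ χ : G → ℂ}
    (hφ : IsCharacter G φ) (hχ : IsIrrCharacter G χ) (hne : ⟪φ, χ⟫ ≠ 0) :
    (χ 1).re ≤ (φ 1).re := by
  have := (hφ.sub_irr hχ hne).re_one_nonneg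
  simpa using this

theorem _root_.Cfsg.IsCharacter.eq_of_degree_le [Fintype G] {φ χ : G → ℂ}
    (hφ : IsCharacter G φ) (hχ : IsIrrCharacter G χ) (hne : ⟪φ, χ⟫ ≠ 0)
    (h : (φ 1).re ≤ (χ 1).re) : φ = χ := by
  have h1 := hφ.sub_irr hχ hne
  obtain ⟨n, hn⟩ := h1.exists_degree
  have h2 := congrArg Complex.re hn
  simp only [Pi.sub_apply, Complex.sub_re, Complex.natCast_re] at h2
  have h3 : (n : ℝ) = 0 := le_antisymm (by linarith) (Nat.cast_nonneg n)
  have h4 : n = 0 := by exact_mod_cast h3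
  rw [h4, Nat.cast_zero] at hn
  exact sub_eq_zero.1 (h1.eq_zero_of_degree hn)

theorem sum_subgroup_eq_sum_ite [Fintype G] (N : Subgroup G) [Fintype N] [DecidablePred (· ∈ N)]
    {M : Type*} [AddCommMonoid M] (φ : G → M) :
    ∑ n : N, φ n = ∑ g : G, if g ∈ N then φ g else 0 := by
  rw [← Finset.sum_filter]
  exact (Finset.sum_subtype (Finset.univ.filter (· ∈ N)) (by simp) φ).symm

/-- The sum of an irreducible character over a normal subgroup vanishes unless the subgroup lies
in the kernel. -/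
theorem _root_.Cfsg.IsIrrCharacter.sum_normal_eq_zero {χ : G → ℂ} (hχ : IsIrrCharacter G χ)
    (N : Subgroup G) [hN : N.Normal] [Fintype N] (h : ∃ n ∈ N, χ n ≠ χ 1) :
    ∑ n : N, χ n = 0 := by
  classical
  have := Fintype.ofFinite G
  obtain ⟨m, hm, hne⟩ := h
  have hF : IsClassFunction G (fun g => if g ∈ N then (1 : ℂ) else 0) := by
    intro g y
    refine if_congr ⟨fun e => ?_, fun e => hN.conj_mem _ e y⟩ rfl rfl
    simpa [mul_assoc] using hN.conj_mem _ e y⁻¹
  have h1 := hχ.sum_class_mul hF m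
  simp only [ite_mul, one_mul, zero_mul] at h1
  rw [← sum_subgroup_eq_sum_ite N (fun g => χ (g * m)), ← sum_subgroup_eq_sum_ite N χ] at h1
  have h2 : ∑ n : N, χ (n * m) = ∑ n : N, χ n :=
    Fintype.sum_equiv (Equiv.mulRight (⟨m, hm⟩ : N)) _ _ fun n => rfl
  rw [h2, mul_comm] at h1
  by_contra hs
  exact hne (mul_left_cancel₀ hs h1).symm

theorem _root_.Cfsg.IsIrrCharacter.ci_restrict_one [Fintype G] {χ : G → ℂ}
    (hχ : IsIrrCharacter G χ) (N : Subgroup G) [hN : N.Normal] [Fintype N]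
    [Decidable (∀ n ∈ N, χ n = χ 1)] :
    ⟪(fun n : N => χ n), fun _ => 1⟫ = if ∀ n ∈ N, χ n = χ 1 then χ 1 else 0 := by
  rw [ci_one_right]
  split_ifs with h
  · simp only [h _ (Subtype.prop _), Finset.sum_const, Finset.card_univ,
      ← Nat.card_eq_fintype_card, nsmul_eq_mul]
    rw [← mul_assoc, inv_mul_cancel₀ (card_ne_zero_complex N), one_mul]
  · push Not at h
    rw [hχ.sum_normal_eq_zero N h, mul_zero]

theorem indFun_one_normal [Fintype G] (N : Subgroup G) [hN : N.Normal] (g : G)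
    [Decidable (g ∈ N)] : indFun N (fun _ => 1) g = if g ∈ N then (N.index : ℂ) else 0 := by
  split_ifs with hg
  · have : ∀ x : G, extendByZero N (fun _ => 1) (x⁻¹ * g * x) = 1 := fun x =>
      extendByZero_of_mem N _ (by simpa using hN.conj_mem g hg x⁻¹)
    simp only [indFun, this, Finset.sum_const, Finset.card_univ, ← Nat.card_eq_fintype_card,
      nsmul_eq_mul, mul_one]
    rw [← card_div_card_eq_index]; ring
  · exact indFun_eq_zero_of_not_mem N _ hg

open Classical in
/-- The irreducible characters whose kernel contains `N`. -/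
noncomputable def IrrKer (N : Subgroup G) : Finset (G → ℂ) :=
  (Irr G).filter (fun χ => ∀ n ∈ N, χ n = χ 1)

@[simp] theorem mem_IrrKer {N : Subgroup G} {χ : G → ℂ} :
    χ ∈ IrrKer N ↔ IsIrrCharacter G χ ∧ ∀ n ∈ N, χ n = χ 1 := by
  simp [IrrKer]

theorem IrrKer_subset (N : Subgroup G) : IrrKer N ⊆ Irr G := fun _ h => mem_Irr.2 (mem_IrrKer.1 h).1

theorem IrrKer_anti {N M : Subgroup G} (h : N ≤ M) : IrrKer M ⊆ IrrKer N := fun _ hχ =>
  mem_IrrKer.2 ⟨(mem_IrrKer.1 hχ).1, fun n hn => (mem_IrrKer.1 hχ).2 n (h hn)⟩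

theorem one_mem_IrrKer (N : Subgroup G) : (fun _ => 1) ∈ IrrKer N :=
  mem_IrrKer.2 ⟨isIrrCharacter_one, fun _ _ => rfl⟩

theorem indFun_one_eq_sum [Fintype G] (N : Subgroup G) [hN : N.Normal] :
    indFun N (fun _ => 1) = ∑ χ ∈ IrrKer N, χ 1 • χ := by
  classical
  have := Fintype.ofFinite N
  conv_lhs => rw [(isClassFunction_indFun N (fun _ => 1)).eq_sum_irr]
  rw [IrrKer, Finset.sum_filter]
  refine Finset.sum_congr rfl fun χ hχ => ?_
  have hχ := mem_Irr.1 hχ
  rw [ci_indFun_left N _ hχ.isClassFunction, ← ci_conj_symm, hχ.ci_restrict_one N]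
  split_ifs
  · rw [hχ.isCharacter.conj_one]
  · simp

theorem sum_irr_ker_degree_mul (N : Subgroup G) [hN : N.Normal] (g : G) [Decidable (g ∈ N)] :
    ∑ χ ∈ IrrKer N, χ 1 * χ g = if g ∈ N then (N.index : ℂ) else 0 := by
  have := Fintype.ofFinite G
  rw [← indFun_one_normal, indFun_one_eq_sum]
  simp [Finset.sum_apply]

theorem sum_irr_ker_degree_sq (N : Subgroup G) [hN : N.Normal] :
    ∑ χ ∈ IrrKer N, χ 1 ^ 2 = (N.index : ℂ) := by
  classical
  have := sum_irr_ker_degree_mul N 1
  simpa [sq, N.one_mem] using this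

/-- An irreducible character whose kernel contains all commutators is linear. -/
theorem _root_.Cfsg.IsIrrCharacter.degree_one_of_commutators {χ : G → ℂ}
    (hχ : IsIrrCharacter G χ) (h : ∀ x y : G, χ (x * y * x⁻¹ * y⁻¹) = χ 1) : χ 1 = 1 := by
  have := Fintype.ofFinite G
  have key : ∀ g, χ g * conj (χ g) = χ 1 ^ 2 := by
    intro g
    rw [← hχ.isCharacter.apply_inv, ← hχ.mul_of_conj_eq (fun x => by rw [h, mul_inv_cancel]),
      mul_inv_cancel, sq]
  have h1 := hχ.ci_self
  simp only [ci_def, key, Finset.sum_const, Finset.card_univ, ← Nat.card_eq_fintype_card,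
    nsmul_eq_mul] at h1
  rw [← mul_assoc, inv_mul_cancel₀ (card_ne_zero_complex G), one_mul] at h1
  obtain ⟨n, hn, h2⟩ := hχ.exists_degree
  rw [h2] at h1 ⊢
  have : n ^ 2 = 1 := by exact_mod_cast h1
  have : n = 1 := by simpa using this
  simp [this]

theorem _root_.Cfsg.IsIrrCharacter.norm_eq_of_commutators {χ : G → ℂ}
    (hχ : IsIrrCharacter G χ) {d : G} (h : ∀ c : G, χ (d * c * d⁻¹ * c⁻¹) = χ 1) :
    ‖χ d‖ = ‖χ 1‖ := by
  have h1 : χ 1 * χ (d * d⁻¹) = χ d * χ d⁻¹ := by
    refine hχ.mul_of_conj_eq fun x => ?_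
    have h2 := h x
    have h3 : x * d * x⁻¹ * d⁻¹ = (d * x * d⁻¹ * x⁻¹)⁻¹ := by group
    rw [h3, hχ.isCharacter.apply_inv, h2, hχ.isCharacter.conj_one, mul_inv_cancel]
  rw [mul_inv_cancel, hχ.isCharacter.apply_inv] at h1
  have h2 := congrArg norm h1
  simp only [norm_mul, Complex.norm_conj] at h2
  exact (mul_self_inj (norm_nonneg _) (norm_nonneg _)).1 h2.symm

/-- If `D` is central modulo the kernel of `χ` then `χ(1) ^ 2 ≤ [G : D]`. -/
theorem _root_.Cfsg.IsIrrCharacter.degree_sq_mul_card_le {χ : G → ℂ}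
    (hχ : IsIrrCharacter G χ) (D : Subgroup G)
    (h : ∀ d ∈ D, ∀ c : G, χ (d * c * d⁻¹ * c⁻¹) = χ 1) :
    ‖χ 1‖ ^ 2 * (Nat.card D : ℝ) ≤ Nat.card G := by
  classical
  have := Fintype.ofFinite G
  have := Fintype.ofFinite D
  have h1 := hχ.nsq
  rw [nsq, inv_mul_eq_one₀ (card_ne_zero_real G)] at h1
  have h2 : ∑ d : D, ‖χ d‖ ^ 2 = ‖χ 1‖ ^ 2 * (Nat.card D : ℝ) := by
    rw [Finset.sum_congr rfl (fun d _ => by rw [hχ.norm_eq_of_commutators (h d d.2)])]
    simp [mul_comm]
  rw [h1, ← h2, sum_subgroup_eq_sum_ite D (fun g => ‖χ g‖ ^ 2)]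
  refine Finset.sum_le_sum fun g _ => ?_
  split_ifs
  · exact le_rfl
  · positivity

theorem _root_.Cfsg.IsIrrCharacter.eq_one_of_forall {χ : G → ℂ} (hχ : IsIrrCharacter G χ)
    (h : ∀ g, χ g = χ 1) : χ = fun _ => 1 := by
  have := hχ.degree_one_of_commutators fun x y => h _
  funext g; rw [h g, this]

theorem _root_.Cfsg.IsIrrCharacter.exists_apply_ne {χ : G → ℂ} (hχ : IsIrrCharacter G χ)
    (h : χ ≠ fun _ => 1) : ∃ g, χ g ≠ χ 1 := by
  by_contra hcon
  push Not at hcon
  exact h (hχ.eq_one_of_forall hcon)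

/-- There is a non-principal irreducible character trivial on a given proper normal subgroup. -/
theorem exists_irr_ne_one_of_normal (N : Subgroup G) [N.Normal] (hN : N ≠ ⊤) :
    ∃ χ, IsIrrCharacter G χ ∧ χ ≠ (fun _ => 1) ∧ ∀ n ∈ N, χ n = χ 1 := by
  classical
  by_contra hcon
  push Not at hcon
  have h1 := sum_irr_ker_degree_sq N
  have h2 : IrrKer N = {fun _ => 1} := by
    ext χ
    simp only [mem_IrrKer, Finset.mem_singleton]
    constructor
    · rintro ⟨h, h'⟩
      by_contra hne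
      obtain ⟨n, hn, hn'⟩ := hcon χ h hne
      exact hn' (h' n hn)
    · rintro rfl; exact ⟨isIrrCharacter_one, fun _ _ => rfl⟩
  rw [h2] at h1
  simp only [Finset.sum_singleton, one_pow] at h1
  exact hN (Subgroup.index_eq_one.1 (by exact_mod_cast h1.symm))

end Kernel

/-! ### Inflation -/

section Inflation

variable {G : Type u} [Group G] {Q : Type v} [Group Q]

theorem sum_comp_surjective [Fintype G] [Fintype Q] (f : G →* Q) (hf : Function.Surjective f)
    (φ : Q → ℂ) : ∑ g : G, φ (f g) = Nat.card f.ker * ∑ q : Q, φ q := by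
  classical
  rw [← Finset.sum_fiberwise Finset.univ f, Finset.mul_sum]
  refine Finset.sum_congr rfl fun q _ => ?_
  rw [Finset.sum_congr rfl (g := fun _ => φ q) (fun g hg => by rw [(Finset.mem_filter.1 hg).2]),
    Finset.sum_const, nsmul_eq_mul]
  congr 1
  obtain ⟨g, rfl⟩ := hf q
  rw [← Fintype.card_subtype, ← Nat.card_eq_fintype_card]
  congr 1
  refine Nat.card_congr ⟨fun x => ⟨g⁻¹ * x.1, by simp [MonoidHom.mem_ker, x.2]⟩,
    fun y => ⟨g * y.1, by simp [(MonoidHom.mem_ker).1 y.2]⟩, ?_, ?_⟩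
  · intro x; simp
  · intro y; simp

theorem card_eq_card_ker_mul [Finite G] (f : G →* Q) (hf : Function.Surjective f) :
    Nat.card G = Nat.card f.ker * Nat.card Q := by
  rw [← f.ker.card_mul_index, Subgroup.index_ker, MonoidHom.range_eq_top.2 hf, Subgroup.card_top]

theorem ci_comp_surjective [Fintype G] [Fintype Q] (f : G →* Q) (hf : Function.Surjective f)
    (φ ψ : Q → ℂ) : ⟪(fun g => φ (f g)), fun g => ψ (f g)⟫ = ⟪φ, ψ⟫ := by
  simp only [ci_def]
  rw [sum_comp_surjective f hf (fun q => φ q * conj (ψ q)), card_eq_card_ker_mul f hf]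
  have := card_ne_zero_complex f.ker
  have := card_ne_zero_complex Q
  push_cast
  field_simp

theorem _root_.Cfsg.IsIrrCharacter.comp_surjective [Finite G] {χ : Q → ℂ}
    (hχ : IsIrrCharacter Q χ) (f : G →* Q) (hf : Function.Surjective f) :
    IsIrrCharacter G (fun g => χ (f g)) := by
  have := Finite.of_surjective f hf
  have := Fintype.ofFinite G
  have := Fintype.ofFinite Q
  exact (hχ.isCharacter.comp f).isIrr_of_ci_self (by rw [ci_comp_surjective f hf, hχ.ci_self])

theorem _root_.Cfsg.IsCharacter.exists_deflation [Finite G] {χ : G → ℂ} (hχ : IsCharacter G χ)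
    (f : G →* Q) (hf : Function.Surjective f) (h : ∀ g, f g = 1 → χ g = χ 1) :
    ∃ ψ : Q → ℂ, IsCharacter Q ψ ∧ χ = fun g => ψ (f g) := by
  obtain ⟨n, ρ, rfl⟩ := hχ
  have hker : ∀ g ∈ f.ker, ρ g = 1 := fun g hg => rep_eq_one_of_character ρ (by rw [h g hg])
  let σ : Representation ℂ Q (Fin n → ℂ) :=
    (QuotientGroup.lift f.ker ρ hker).comp
      (QuotientGroup.quotientKerEquivOfSurjective f hf).symm.toMonoidHom
  refine ⟨σ.character, ⟨n, σ, rfl⟩, ?_⟩
  funext g
  have : (QuotientGroup.quotientKerEquivOfSurjective f hf).symm (f g) = (g : G ⧸ f.ker) := by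
    rw [MulEquiv.symm_apply_eq]; rfl
  simp only [σ, Representation.character, MonoidHom.comp_apply, MulEquiv.coe_toMonoidHom, this]
  rfl

theorem _root_.Cfsg.IsIrrCharacter.exists_deflation [Finite G] {χ : G → ℂ}
    (hχ : IsIrrCharacter G χ) (f : G →* Q) (hf : Function.Surjective f)
    (h : ∀ g, f g = 1 → χ g = χ 1) : ∃ ψ : Q → ℂ, IsIrrCharacter Q ψ ∧ χ = fun g => ψ (f g) := by
  have := Finite.of_surjective f hf
  have := Fintype.ofFinite G
  have := Fintype.ofFinite Q
  obtain ⟨ψ, hψ, rfl⟩ := hχ.isCharacter.exists_deflation f hf h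
  exact ⟨ψ, hψ.isIrr_of_ci_self (by rw [← ci_comp_surjective f hf, hχ.ci_self]), rfl⟩

end Inflation

/-! ### Brauer's permutation lemma -/

section Brauer

variable {G : Type u} [Group G]

theorem sum_card_centralizer_class [Fintype G] (P : ConjClasses G → Prop) [DecidablePred P] :
    ∑ g : G, (if P (ConjClasses.mk g) then (Nat.card (Subgroup.centralizer ({g} : Set G)) : ℂ)
      else 0) = Nat.card G * Nat.card {C : ConjClasses G // P C} := by
  classical
  have := Fintype.ofFinite (ConjClasses G)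
  rw [natCard_subtype_eq_sum_ite, Finset.mul_sum, ← Finset.sum_fiberwise Finset.univ ConjClasses.mk]
  refine Finset.sum_congr rfl fun C _ => ?_
  obtain ⟨h, rfl⟩ := ConjClasses.mk_surjective C
  rw [Finset.sum_congr rfl (g := fun g => if P (ConjClasses.mk h) then
    (Nat.card (Subgroup.centralizer ({g} : Set G)) : ℂ) else 0)
    (fun g hg => by rw [(Finset.mem_filter.1 hg).2])]
  split_ifs
  · rw [mul_one, Finset.sum_filter]
    have : ∀ g : G, (if ConjClasses.mk g = ConjClasses.mk h then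
        (Nat.card (Subgroup.centralizer ({g} : Set G)) : ℂ) else 0) =
        ∑ x : G, if x⁻¹ * g * x = h then 1 else 0 := by
      intro g
      rw [← natCard_subtype_eq_sum_ite]
      split_ifs with e
      · rw [card_conj_eq_of_isConj (ConjClasses.mk_eq_mk_iff_isConj.1 e)]
      · rw [card_conj_eq_zero_of_not_isConj (mt ConjClasses.mk_eq_mk_iff_isConj.2 e)]; simp
    simp only [this]
    rw [Finset.sum_comm]
    have h2 : ∀ x : G, (∑ g : G, if x⁻¹ * g * x = h then (1 : ℂ) else 0) = 1 := by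
      intro x
      rw [Finset.sum_eq_single (x * h * x⁻¹)]
      · rw [if_pos (by group)]
      · intro b _ hb
        rw [if_neg]
        intro e; apply hb; rw [← e]; group
      · simp
    simp [h2]
  · simp

/-- Brauer's permutation lemma: a map `π` of the group to itself that permutes the irreducible
characters fixes as many irreducible characters as conjugacy classes. -/
theorem brauer_permutation [Finite G] (π : G → G)
    (hπ : ∀ χ, IsIrrCharacter G χ → IsIrrCharacter G (fun g => χ (π g)))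
    (P : ConjClasses G → Prop) (hP : ∀ g, P (ConjClasses.mk g) ↔ IsConj (π g) g) :
    Nat.card {χ : IrrCharacter G // (fun g => χ.1 (π g)) = χ.1} =
      Nat.card {C : ConjClasses G // P C} := by
  classical
  have := Fintype.ofFinite G
  have h1 : (Nat.card {χ : IrrCharacter G // (fun g => χ.1 (π g)) = χ.1} : ℂ) =
      ∑ χ ∈ Irr G, ⟪(fun g => χ (π g)), χ⟫ := by
    rw [Finset.sum_congr rfl (fun χ hχ => (hπ χ (mem_Irr.1 hχ)).ci_eq_ite (mem_Irr.1 hχ)),
      Finset.sum_boole, ← Nat.card_eq_finsetCard]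
    congr 1
    refine Nat.card_congr ⟨fun x => ⟨x.1.1, by simpa using ⟨x.1.2, x.2⟩⟩,
      fun y => ⟨⟨y.1, mem_Irr.1 (Finset.mem_filter.1 y.2).1⟩, (Finset.mem_filter.1 y.2).2⟩,
      fun _ => rfl, fun _ => rfl⟩
  have h2 : ∑ χ ∈ Irr G, ⟪(fun g => χ (π g)), χ⟫ = Nat.card {C : ConjClasses G // P C} := by
    simp only [ci_def, ← Finset.mul_sum]
    rw [Finset.sum_comm]
    have : ∀ g : G, ∑ χ ∈ Irr G, χ (π g) * conj (χ g) = if P (ConjClasses.mk g) then
        (Nat.card (Subgroup.centralizer ({g} : Set G)) : ℂ) else 0 := by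
      intro g
      split_ifs with e
      · rw [← sum_irr_mul_conj_of_isConj (IsConj.refl g)]
        refine Finset.sum_congr rfl fun χ hχ => ?_
        rw [(mem_Irr.1 hχ).isClassFunction.eq_of_isConj ((hP g).1 e)]
      · exact sum_irr_mul_conj_of_not_isConj (mt (hP g).2 e)
    simp only [this]
    rw [sum_card_centralizer_class, ← mul_assoc, inv_mul_cancel₀ (card_ne_zero_complex G), one_mul]
  exact_mod_cast h1.trans h2

theorem card_irr_eq_card_conjClasses (G : Type u) [Group G] [Finite G] :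
    Nat.card (IrrCharacter G) = Nat.card (ConjClasses G) := by
  have := brauer_permutation (G := G) id (fun χ h => h) (fun _ => True)
    (fun g => ⟨fun _ => IsConj.refl g, fun _ => trivial⟩)
  simpa using this

/-- If `π` fixes no conjugacy class but the trivial one, it fixes no non-principal irreducible
character. -/
theorem eq_one_of_brauer [Finite G] (π : G → G)
    (hπ : ∀ χ, IsIrrCharacter G χ → IsIrrCharacter G (fun g => χ (π g)))
    (hP : ∀ g, IsConj (π g) g → g = 1) {χ : G → ℂ} (hχ : IsIrrCharacter G χ)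
    (hfix : (fun g => χ (π g)) = χ) : χ = fun _ => 1 := by
  have h := brauer_permutation π hπ (fun C => ∃ g, C = ConjClasses.mk g ∧ IsConj (π g) g) ?_
  · have h1 : Nat.card {C : ConjClasses G // ∃ g, C = ConjClasses.mk g ∧ IsConj (π g) g} ≤ 1 := by
      have : Subsingleton {C : ConjClasses G // ∃ g, C = ConjClasses.mk g ∧ IsConj (π g) g} := by
        constructor
        rintro ⟨_, a, rfl, ha⟩ ⟨_, b, rfl, hb⟩
        simp [hP a ha, hP b hb]
      exact Finite.card_le_one_iff_subsingleton.2 this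
    have := finite_irrCharacter (G := G)
    rw [← h, Finite.card_le_one_iff_subsingleton] at h1
    have h2 := h1.elim ⟨⟨χ, hχ⟩, hfix⟩ ⟨⟨_, isIrrCharacter_one⟩, rfl⟩
    exact congrArg (fun x => x.1.1) h2
  · intro g
    constructor
    · rintro ⟨a, ha, ha'⟩
      have hga := ConjClasses.mk_eq_mk_iff_isConj.1 ha
      rw [hP a ha', isConj_one_left] at hga
      have h1 := hP a ha'
      subst h1
      subst hga
      exact ha'
    · intro h; exact ⟨g, rfl, h⟩

theorem eq_one_of_isConj_inv_of_odd [Finite G] (hodd : Odd (Nat.card G)) {g : G}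
    (h : IsConj g⁻¹ g) : g = 1 := by
  obtain ⟨x, hx⟩ := isConj_iff.1 h
  have h2 : x * g * x⁻¹ = g⁻¹ := by
    have := congrArg (·⁻¹) hx
    simpa [mul_assoc] using this
  have h3 : Commute (x ^ 2) g := by
    have : x ^ 2 * g * (x ^ 2)⁻¹ = g := by
      calc x ^ 2 * g * (x ^ 2)⁻¹ = x * (x * g * x⁻¹) * x⁻¹ := by rw [sq]; group
        _ = g := by rw [h2, hx]
    rw [Commute, SemiconjBy]
    calc x ^ 2 * g = (x ^ 2 * g * (x ^ 2)⁻¹) * x ^ 2 := by group
      _ = g * x ^ 2 := by rw [this]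
  obtain ⟨k, hk⟩ := hodd
  have h4 : x = ((x ^ 2) ^ k)⁻¹ := by
    rw [eq_inv_iff_mul_eq_one, ← pow_mul, ← pow_succ', ← hk, pow_card_eq_one']
  have h5 : Commute x g := by rw [h4]; exact (h3.pow_left k).inv_left
  rw [h5.eq, mul_inv_cancel_right] at h2
  have h6 : g ^ 2 = 1 := by rw [sq]; nth_rewrite 1 [h2]; simp
  have h7 := pow_card_eq_one' (x := g)
  rwa [hk, pow_succ, pow_mul, h6, one_pow, one_mul] at h7

/-- In a group of odd order the only real irreducible character is the principal one. -/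
theorem _root_.Cfsg.IsIrrCharacter.eq_one_of_odd_of_real [Finite G] (hodd : Odd (Nat.card G))
    {χ : G → ℂ} (hχ : IsIrrCharacter G χ) (h : conjFun χ = χ) : χ = fun _ => 1 := by
  refine eq_one_of_brauer (fun g => g⁻¹) (fun ψ hψ => ?_)
    (fun g hg => eq_one_of_isConj_inv_of_odd hodd hg) hχ ?_
  · rw [← hψ.isCharacter.conjFun_eq]; exact hψ.conjFun
  · rw [← hχ.isCharacter.conjFun_eq, h]

end Brauer

end Cfsg.Agent.Char
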