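import Cfsg.Agent.Char.Virtual

/-!
# Induction of class functions (along arbitrary homomorphisms), Frobenius reciprocity
-/

set_option autoImplicit false
set_option linter.unusedSectionVars false

namespace Cfsg.Agent.Char

open Cfsg
open scoped ComplexConjugate

universe u v w

section ExtendByZero

variable {G : Type u} [Group G]

theorem extendByZero_coe (H : Subgroup G) (θ : H → ℂ) (h : H) : extendByZero H θ h = θ h :=
  Subtype.val_injective.extend_apply θ 0 h

theorem extendByZero_of_mem (H : Subgroup G) (θ : H → ℂ) {g : G} (hg : g ∈ H) :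
    extendByZero H θ g = θ ⟨g, hg⟩ := extendByZero_coe H θ ⟨g, hg⟩

theorem extendByZero_of_not_mem (H : Subgroup G) (θ : H → ℂ) {g : G} (hg : g ∉ H) :
    extendByZero H θ g = 0 := by
  unfold extendByZero
  rw [Function.extend_apply']
  · rfl
  · rintro ⟨a, rfl⟩; exact hg a.2

theorem extendByZero_eq_dite (H : Subgroup G) (θ : H → ℂ) (g : G) [Decidable (g ∈ H)] :
    extendByZero H θ g = if hg : g ∈ H then θ ⟨g, hg⟩ else 0 := by
  split_ifs with hg
  · exact extendByZero_of_mem H θ hg
  · exact extendByZero_of_not_mem H θ hg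

end ExtendByZero

section Ind

variable {G : Type u} [Group G] [Fintype G] {H : Type v} [Group H] [Fintype H]

open Classical in
/-- Induction of a function along a homomorphism. -/
noncomputable def ind (f : H →* G) (θ : H → ℂ) : G → ℂ :=
  fun g => (Nat.card H : ℂ)⁻¹ * ∑ x : G, ∑ h : H, if f h = x⁻¹ * g * x then θ h else 0

theorem indFun_eq_ind (K : Subgroup G) [Fintype K] (θ : K → ℂ) : indFun K θ = ind K.subtype θ := by
  classical
  funext g
  simp only [indFun, ind]
  congr 1
  refine Finset.sum_congr rfl fun x _ => ?_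
  rw [extendByZero_eq_dite]
  split_ifs with hx
  · rw [Finset.sum_eq_single ⟨_, hx⟩]
    · simp
    · intro b _ hb
      rw [if_neg]
      intro h; exact hb (Subtype.ext h)
    · simp
  · symm
    refine Finset.sum_eq_zero fun h _ => if_neg ?_
    intro e; exact hx (e ▸ h.2)

theorem isClassFunction_ind (f : H →* G) (θ : H → ℂ) : IsClassFunction G (ind f θ) := by
  intro g y
  simp only [ind]
  congr 1
  refine Fintype.sum_equiv (Equiv.mulLeft y⁻¹) _ _ fun x => ?_
  have : (y⁻¹ * x)⁻¹ * g * (y⁻¹ * x) = x⁻¹ * (y * g * y⁻¹) * x := by group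
  rw [Equiv.coe_mulLeft, this]

/-- Frobenius reciprocity. -/
theorem ci_ind_left (f : H →* G) (θ : H → ℂ) {χ : G → ℂ} (hχ : IsClassFunction G χ) :
    ⟪ind f θ, χ⟫ = ⟪θ, fun h => χ (f h)⟫ := by
  classical
  have key : ∀ x : G, ∑ g : G, (∑ h : H, if f h = x⁻¹ * g * x then θ h else 0) * conj (χ g) =
      ∑ h : H, θ h * conj (χ (f h)) := by
    intro x
    simp only [Finset.sum_mul]
    rw [Finset.sum_comm]
    refine Finset.sum_congr rfl fun h _ => ?_
    rw [Finset.sum_eq_single (x * f h * x⁻¹)]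
    · rw [if_pos (by group), hχ]
    · intro b _ hb
      rw [if_neg, zero_mul]
      intro e; apply hb; rw [e]; group
    · simp
  simp only [ci_def, ind, mul_assoc, ← Finset.mul_sum]
  simp only [Finset.sum_mul, ← mul_assoc]
  rw [Finset.sum_comm]
  simp only [← Finset.sum_mul, key]
  rw [Finset.sum_const, Finset.card_univ, ← Nat.card_eq_fintype_card, nsmul_eq_mul]
  have := card_ne_zero_complex G
  field_simp

theorem ci_ind_right (f : H →* G) {χ : G → ℂ} (hχ : IsClassFunction G χ) (θ : H → ℂ) :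
    ⟪χ, ind f θ⟫ = ⟪fun h => χ (f h), θ⟫ := by
  rw [← ci_conj_symm, ci_ind_left f θ hχ, ci_conj_symm]

/-- Induction as a linear map. -/
noncomputable def indL (f : H →* G) : (H → ℂ) →ₗ[ℂ] (G → ℂ) where
  toFun := ind f
  map_add' θ φ := by
    funext g
    simp only [ind, Pi.add_apply, ← mul_add, ← Finset.sum_add_distrib]
    congr 1
    refine Finset.sum_congr rfl fun x _ => Finset.sum_congr rfl fun h _ => ?_
    split_ifs <;> simp
  map_smul' c θ := by
    funext g
    simp only [ind, Pi.smul_apply, smul_eq_mul, RingHom.id_apply, Finset.mul_sum]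
    refine Finset.sum_congr rfl fun x _ => Finset.sum_congr rfl fun h _ => ?_
    split_ifs <;> ring

theorem indL_apply (f : H →* G) (θ : H → ℂ) : indL f θ = ind f θ := rfl

theorem ind_add (f : H →* G) (θ φ : H → ℂ) : ind f (θ + φ) = ind f θ + ind f φ :=
  (indL f).map_add θ φ

theorem ind_sub (f : H →* G) (θ φ : H → ℂ) : ind f (θ - φ) = ind f θ - ind f φ :=
  map_sub (indL f) θ φ

theorem ind_neg (f : H →* G) (θ : H → ℂ) : ind f (-θ) = -ind f θ := map_neg (indL f) θ

theorem ind_smul (f : H →* G) (c : ℂ) (θ : H → ℂ) : ind f (c • θ) = c • ind f θ :=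
  (indL f).map_smul c θ

theorem ind_zsmul (f : H →* G) (c : ℤ) (θ : H → ℂ) : ind f (c • θ) = c • ind f θ :=
  map_zsmul (indL f) c θ

theorem ind_zero (f : H →* G) : ind f 0 = 0 := map_zero (indL f)

theorem ind_sum (f : H →* G) {ι : Type*} (s : Finset ι) (θ : ι → H → ℂ) :
    ind f (∑ i ∈ s, θ i) = ∑ i ∈ s, ind f (θ i) := map_sum (indL f) θ s

theorem _root_.Cfsg.IsCharacter.ind {θ : H → ℂ} (hθ : IsCharacter H θ) (f : H →* G) :
    IsCharacter G (ind f θ) :=
  isCharacter_of_ci_nat (isClassFunction_ind f θ) fun χ hχ => by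
    rw [ci_ind_left f θ hχ.isClassFunction]
    exact hθ.ci_nat (hχ.isCharacter.comp f)

theorem _root_.Cfsg.IsGeneralizedCharacter.ind {θ : H → ℂ} (hθ : IsGeneralizedCharacter H θ)
    (f : H →* G) : IsGeneralizedCharacter G (ind f θ) := by
  obtain ⟨χ, ψ, hχ, hψ, rfl⟩ := hθ
  exact ⟨_, _, hχ.ind f, hψ.ind f, ind_sub _ _ _⟩

theorem ind_comp {K : Type w} [Group K] [Fintype K] (f : H →* G) (f' : K →* H) (θ : K → ℂ) :
    ind f (ind f' θ) = ind (f.comp f') θ :=
  (isClassFunction_ind _ _).ext_irr (isClassFunction_ind _ _) fun χ hχ => by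
    rw [ci_ind_left _ _ hχ.isClassFunction, ci_ind_left _ _ hχ.isClassFunction,
      ci_ind_left _ _ (hχ.isClassFunction.comp f)]
    rfl

theorem ind_comp_equiv {K : Type w} [Group K] [Fintype K] (f : H →* G) (e : K ≃* H) (θ : H → ℂ) :
    ind (f.comp e.toMonoidHom) (fun k => θ (e k)) = ind f θ :=
  (isClassFunction_ind _ _).ext_irr (isClassFunction_ind _ _) fun χ hχ => by
    rw [ci_ind_left _ _ hχ.isClassFunction, ci_ind_left _ _ hχ.isClassFunction]
    exact ci_comp_equiv e.toEquiv θ (fun h => χ (f h))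

theorem ind_id {θ : G → ℂ} (hθ : IsClassFunction G θ) : ind (MonoidHom.id G) θ = θ :=
  (isClassFunction_ind _ _).ext_irr hθ fun χ hχ => by
    rw [ci_ind_left _ _ hχ.isClassFunction]; rfl

theorem ind_mul_comp (f : H →* G) (θ : H → ℂ) {χ : G → ℂ} (hχ : IsClassFunction G χ) :
    ind f (θ * fun h => χ (f h)) = ind f θ * χ := by
  funext g
  simp only [ind, Pi.mul_apply, mul_assoc, Finset.sum_mul]
  congr 1
  refine Finset.sum_congr rfl fun x _ => Finset.sum_congr rfl fun h _ => ?_
  split_ifs with e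
  · rw [e, hχ.conj']
  · simp

theorem conjFun_ind (f : H →* G) (θ : H → ℂ) : conjFun (ind f θ) = ind f (conjFun θ) := by
  funext g
  simp only [ind, conjFun_apply, map_mul, map_inv₀, map_natCast, map_sum]
  congr 1
  refine Finset.sum_congr rfl fun x _ => Finset.sum_congr rfl fun h _ => ?_
  split_ifs <;> simp

theorem map_ind (σ : ℂ →+* ℂ) (f : H →* G) (θ : H → ℂ) (g : G) :
    σ (ind f θ g) = ind f (fun h => σ (θ h)) g := by
  simp only [ind, map_mul, map_inv₀, map_natCast, map_sum]
  congr 1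
  refine Finset.sum_congr rfl fun x _ => Finset.sum_congr rfl fun h _ => ?_
  split_ifs <;> simp

theorem ind_apply_one {f : H →* G} (hf : Function.Injective f) (θ : H → ℂ) :
    ind f θ 1 = (Nat.card G : ℂ) / (Nat.card H : ℂ) * θ 1 := by
  classical
  have : ∀ x : G, (∑ h : H, if f h = x⁻¹ * 1 * x then θ h else 0) = θ 1 := by
    intro x
    rw [Finset.sum_eq_single 1]
    · simp
    · intro b _ hb
      rw [if_neg]
      intro e
      apply hb; apply hf; simpa using e
    · simp
  simp only [ind, this, Finset.sum_const, Finset.card_univ, ← Nat.card_eq_fintype_card,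
    nsmul_eq_mul]
  ring

theorem ind_eq_zero_of_forall {f : H →* G} {θ : H → ℂ} {g : G}
    (h : ∀ (x : G) (a : H), f a = x⁻¹ * g * x → θ a = 0) : ind f θ g = 0 := by
  simp only [ind]
  rw [Finset.sum_eq_zero, mul_zero]
  intro x _
  refine Finset.sum_eq_zero fun a _ => ?_
  split_ifs with e
  · exact h x a e
  · rfl

/-- Conjugating the homomorphism does not change induction. -/
theorem ind_congr_conj {f f' : H →* G} (y : G) (h : ∀ a, f' a = y * f a * y⁻¹) (θ : H → ℂ) :
    ind f' θ = ind f θ :=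
  (isClassFunction_ind _ _).ext_irr (isClassFunction_ind _ _) fun χ hχ => by
    rw [ci_ind_left _ _ hχ.isClassFunction, ci_ind_left _ _ hχ.isClassFunction]
    simp only [h, hχ.isClassFunction _ _]

end Ind

/-! ### The same facts for `indFun` -/

section IndFun

variable {G : Type u} [Group G] [Fintype G] (K : Subgroup G)

theorem isClassFunction_indFun (θ : K → ℂ) : IsClassFunction G (indFun K θ) := by
  have := Fintype.ofFinite K
  rw [indFun_eq_ind]; exact isClassFunction_ind _ _

theorem ci_indFun_left [Fintype K] (θ : K → ℂ) {χ : G → ℂ} (hχ : IsClassFunction G χ) :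
    ⟪indFun K θ, χ⟫ = ⟪θ, fun h : K => χ h⟫ := by
  rw [indFun_eq_ind]; exact ci_ind_left _ _ hχ

theorem ci_indFun_right [Fintype K] {χ : G → ℂ} (hχ : IsClassFunction G χ) (θ : K → ℂ) :
    ⟪χ, indFun K θ⟫ = ⟪fun h : K => χ h, θ⟫ := by
  rw [indFun_eq_ind]; exact ci_ind_right _ hχ _

/-- `indFun` as a linear map. -/
noncomputable def indFunL : (K → ℂ) →ₗ[ℂ] (G → ℂ) where
  toFun := indFun K
  map_add' θ φ := by
    have := Fintype.ofFinite K
    simp only [indFun_eq_ind, ind_add]
  map_smul' c θ := by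
    have := Fintype.ofFinite K
    simp only [indFun_eq_ind, ind_smul, RingHom.id_apply]

theorem indFunL_apply (θ : K → ℂ) : indFunL K θ = indFun K θ := rfl

theorem indFun_add (θ φ : K → ℂ) : indFun K (θ + φ) = indFun K θ + indFun K φ :=
  (indFunL K).map_add θ φ

theorem indFun_sub (θ φ : K → ℂ) : indFun K (θ - φ) = indFun K θ - indFun K φ :=
  map_sub (indFunL K) θ φ

theorem indFun_neg (θ : K → ℂ) : indFun K (-θ) = -indFun K θ := map_neg (indFunL K) θ

theorem indFun_smul (c : ℂ) (θ : K → ℂ) : indFun K (c • θ) = c • indFun K θ :=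
  (indFunL K).map_smul c θ

theorem indFun_zsmul (c : ℤ) (θ : K → ℂ) : indFun K (c • θ) = c • indFun K θ :=
  map_zsmul (indFunL K) c θ

theorem indFun_zero : indFun K 0 = 0 := map_zero (indFunL K)

theorem indFun_sum {ι : Type*} (s : Finset ι) (θ : ι → K → ℂ) :
    indFun K (∑ i ∈ s, θ i) = ∑ i ∈ s, indFun K (θ i) := map_sum (indFunL K) θ s

variable {K}

theorem _root_.Cfsg.IsCharacter.indFun {θ : K → ℂ} (hθ : IsCharacter K θ) :
    IsCharacter G (indFun K θ) := by
  have := Fintype.ofFinite K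
  rw [indFun_eq_ind]; exact hθ.ind _

theorem _root_.Cfsg.IsGeneralizedCharacter.indFun {θ : K → ℂ} (hθ : IsGeneralizedCharacter K θ) :
    IsGeneralizedCharacter G (indFun K θ) := by
  have := Fintype.ofFinite K
  rw [indFun_eq_ind]; exact hθ.ind _

variable (K)

theorem card_div_card_eq_index : (Nat.card G : ℂ) / (Nat.card K : ℂ) = (K.index : ℂ) := by
  rw [← K.card_mul_index, Nat.cast_mul, mul_div_cancel_left₀ _ (card_ne_zero_complex K)]

theorem indFun_apply_one (θ : K → ℂ) : indFun K θ 1 = (K.index : ℂ) * θ 1 := by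
  have := Fintype.ofFinite K
  rw [indFun_eq_ind, ind_apply_one K.subtype_injective, card_div_card_eq_index]

theorem conjFun_indFun (θ : K → ℂ) : conjFun (indFun K θ) = indFun K (conjFun θ) := by
  have := Fintype.ofFinite K
  simp only [indFun_eq_ind, conjFun_ind]

theorem indFun_mul_restrict (θ : K → ℂ) {χ : G → ℂ} (hχ : IsClassFunction G χ) :
    indFun K (θ * fun h : K => χ h) = indFun K θ * χ := by
  have := Fintype.ofFinite K
  simp only [indFun_eq_ind]
  exact ind_mul_comp K.subtype θ hχ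

theorem indFun_eq_zero_of_forall {θ : K → ℂ} {g : G}
    (h : ∀ (x : G) (hx : x⁻¹ * g * x ∈ K), θ ⟨_, hx⟩ = 0) : indFun K θ g = 0 := by
  have := Fintype.ofFinite K
  rw [indFun_eq_ind]
  refine ind_eq_zero_of_forall fun x a e => ?_
  have hx : x⁻¹ * g * x ∈ K := e ▸ a.2
  have : a = ⟨_, hx⟩ := Subtype.ext e
  rw [this]; exact h x hx

theorem indFun_eq_zero_of_not_mem [hK : K.Normal] (θ : K → ℂ) {g : G} (hg : g ∉ K) :
    indFun K θ g = 0 :=
  indFun_eq_zero_of_forall K fun x hx => absurd (by simpa [mul_assoc] using hK.conj_mem _ hx x) hg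

/-- Transitivity of induction, for subgroups `K ≤ M ≤ G`. -/
theorem indFun_ind_inclusion {M : Subgroup G} [Fintype K] [Fintype M] (h : K ≤ M) (θ : K → ℂ) :
    indFun M (ind (Subgroup.inclusion h) θ) = indFun K θ := by
  rw [indFun_eq_ind, indFun_eq_ind, ind_comp]; rfl

theorem indFun_subgroupOf {M : Subgroup G} [Fintype K] [Fintype M] (h : K ≤ M) (θ : K → ℂ) :
    indFun (K.subgroupOf M) (fun x => θ ⟨(x : M), Subgroup.mem_subgroupOf.mp x.2⟩) =
      ind (Subgroup.inclusion h) θ := by
  have := Fintype.ofFinite (K.subgroupOf M)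
  rw [indFun_eq_ind, ← ind_comp_equiv (Subgroup.inclusion h) (Subgroup.subgroupOfEquivOfLe h) θ]
  rfl

/-- Transitivity of induction, for a subgroup of a subgroup. -/
theorem indFun_indFun {M : Subgroup G} [Fintype M] (N : Subgroup M) [Fintype N] (θ : N → ℂ) :
    indFun M (indFun N θ) = ind (M.subtype.comp N.subtype) θ := by
  rw [indFun_eq_ind, indFun_eq_ind, ind_comp]

theorem indFun_top_apply {θ : G → ℂ} (hθ : IsClassFunction G θ) :
    indFun (⊤ : Subgroup G) (fun x => θ x) = θ := by
  have := Fintype.ofFinite (⊤ : Subgroup G)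
  rw [indFun_eq_ind]
  have := ind_comp_equiv (MonoidHom.id G) Subgroup.topEquiv θ
  rw [ind_id hθ] at this
  exact this

/-- Induction from a subgroup controlling fusion on the support: the value at a point `a` of `K`
such that every conjugate of `a` in the support of `θ` is so by an element of `K`. -/
theorem indFun_apply_of_TI {θ : K → ℂ} (hθ : IsClassFunction K θ) (a : K)
    (h : ∀ (x : G) (hx : x⁻¹ * a * x ∈ K), θ ⟨_, hx⟩ ≠ 0 → x ∈ K) : indFun K θ a = θ a := by
  classical
  have := Fintype.ofFinite K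
  have key : ∀ x : G, extendByZero K θ (x⁻¹ * a * x) = if x ∈ K then θ a else 0 := by
    intro x
    split_ifs with hx
    · have := hθ.conj' a ⟨x, hx⟩
      rw [← this, ← extendByZero_coe K θ]; rfl
    · rw [extendByZero_eq_dite]
      split_ifs with hx'
      · by_contra hne; exact hx (h x hx' hne)
      · rfl
  simp only [indFun, key]
  rw [Finset.sum_ite, Finset.sum_const_zero, add_zero, Finset.sum_const, nsmul_eq_mul]
  have : (Finset.univ.filter fun x : G => x ∈ K).card = Nat.card K := by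
    rw [Nat.card_eq_fintype_card, Fintype.card_subtype]
  rw [this, ← mul_assoc, inv_mul_cancel₀ (card_ne_zero_complex K), one_mul]

/-- Induction is an isometry on functions supported in a trivial intersection set. -/
theorem ci_indFun_indFun_of_TI [Fintype K] (A : Set G)
    (hA : ∀ a ∈ A, ∀ x : G, x⁻¹ * a * x ∈ A → x ∈ K) {α β : K → ℂ}
    (hα : ∀ k : K, (k : G) ∉ A → α k = 0) (hβc : IsClassFunction K β)
    (hβ : ∀ k : K, (k : G) ∉ A → β k = 0) : ⟪indFun K α, indFun K β⟫ = ⟪α, β⟫ := by
  rw [ci_indFun_left K α (isClassFunction_indFun K β)]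
  simp only [ci_def]
  congr 1
  refine Finset.sum_congr rfl fun k _ => ?_
  by_cases hk : (k : G) ∈ A
  · rw [indFun_apply_of_TI K hβc k]
    intro x hx hne
    refine hA k hk x ?_
    by_contra h'
    exact hne (hβ _ h')
  · simp [hα k hk]

end IndFun

end Cfsg.Agent.Char
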