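import Cfsg.Agent.Char.Basic

/-!
# Generalized (virtual) characters, signed irreducible characters, integer spans, isometries
-/

set_option autoImplicit false
set_option linter.unusedSectionVars false

namespace Cfsg.Agent.Char

open Cfsg
open scoped ComplexConjugate

universe u v

section General

variable {G : Type u} [Group G]

theorem _root_.Cfsg.IsCharacter.virt {χ : G → ℂ} (h : IsCharacter G χ) :
    IsGeneralizedCharacter G χ := ⟨χ, 0, h, isCharacter_zero, by simp⟩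

theorem _root_.Cfsg.IsIrrCharacter.virt {χ : G → ℂ} (h : IsIrrCharacter G χ) :
    IsGeneralizedCharacter G χ := h.isCharacter.virt

theorem _root_.Cfsg.IsGeneralizedCharacter.isClassFunction {α : G → ℂ}
    (h : IsGeneralizedCharacter G α) : IsClassFunction G α := by
  obtain ⟨χ, ψ, hχ, hψ, rfl⟩ := h
  exact hχ.isClassFunction.sub hψ.isClassFunction

theorem virt_zero : IsGeneralizedCharacter G 0 := isCharacter_zero.virt

theorem virt_one : IsGeneralizedCharacter G (fun _ => 1) := isCharacter_one.virt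

theorem _root_.Cfsg.IsGeneralizedCharacter.add {α β : G → ℂ} (hα : IsGeneralizedCharacter G α)
    (hβ : IsGeneralizedCharacter G β) : IsGeneralizedCharacter G (α + β) := by
  obtain ⟨χ, ψ, hχ, hψ, rfl⟩ := hα
  obtain ⟨χ', ψ', hχ', hψ', rfl⟩ := hβ
  exact ⟨χ + χ', ψ + ψ', hχ.add hχ', hψ.add hψ', by abel⟩

theorem _root_.Cfsg.IsGeneralizedCharacter.neg {α : G → ℂ} (hα : IsGeneralizedCharacter G α) :
    IsGeneralizedCharacter G (-α) := by
  obtain ⟨χ, ψ, hχ, hψ, rfl⟩ := hα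
  exact ⟨ψ, χ, hψ, hχ, by abel⟩

theorem _root_.Cfsg.IsGeneralizedCharacter.sub {α β : G → ℂ} (hα : IsGeneralizedCharacter G α)
    (hβ : IsGeneralizedCharacter G β) : IsGeneralizedCharacter G (α - β) := by
  rw [sub_eq_add_neg]; exact hα.add hβ.neg

theorem _root_.Cfsg.IsGeneralizedCharacter.mul {α β : G → ℂ} (hα : IsGeneralizedCharacter G α)
    (hβ : IsGeneralizedCharacter G β) : IsGeneralizedCharacter G (α * β) := by
  obtain ⟨χ, ψ, hχ, hψ, rfl⟩ := hα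
  obtain ⟨χ', ψ', hχ', hψ', rfl⟩ := hβ
  exact ⟨χ * χ' + ψ * ψ', χ * ψ' + ψ * χ', (hχ.mul hχ').add (hψ.mul hψ'),
    (hχ.mul hψ').add (hψ.mul hχ'), by ring⟩

theorem _root_.Cfsg.IsGeneralizedCharacter.nsmul {α : G → ℂ} (hα : IsGeneralizedCharacter G α)
    (n : ℕ) : IsGeneralizedCharacter G (n • α) := by
  obtain ⟨χ, ψ, hχ, hψ, rfl⟩ := hα
  exact ⟨n • χ, n • ψ, hχ.nsmul n, hψ.nsmul n, smul_sub _ _ _⟩

theorem _root_.Cfsg.IsGeneralizedCharacter.zsmul {α : G → ℂ} (hα : IsGeneralizedCharacter G α)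
    (n : ℤ) : IsGeneralizedCharacter G (n • α) := by
  obtain ⟨m, rfl | rfl⟩ := n.eq_nat_or_neg
  · rw [natCast_zsmul]; exact hα.nsmul m
  · rw [neg_smul, natCast_zsmul]; exact (hα.nsmul m).neg

theorem _root_.Cfsg.IsGeneralizedCharacter.intCast_smul {α : G → ℂ}
    (hα : IsGeneralizedCharacter G α) (n : ℤ) : IsGeneralizedCharacter G ((n : ℂ) • α) := by
  rw [Int.cast_smul_eq_zsmul]; exact hα.zsmul n

theorem _root_.Cfsg.IsGeneralizedCharacter.natCast_smul {α : G → ℂ}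
    (hα : IsGeneralizedCharacter G α) (n : ℕ) : IsGeneralizedCharacter G ((n : ℂ) • α) := by
  rw [Nat.cast_smul_eq_nsmul]; exact hα.nsmul n

theorem _root_.Cfsg.IsGeneralizedCharacter.smul_of_int {α : G → ℂ}
    (hα : IsGeneralizedCharacter G α) {c : ℂ} (hc : ∃ n : ℤ, c = n) :
    IsGeneralizedCharacter G (c • α) := by
  obtain ⟨n, rfl⟩ := hc; exact hα.intCast_smul n

theorem virt_sum {ι : Type*} (s : Finset ι) (f : ι → G → ℂ)
    (hf : ∀ i ∈ s, IsGeneralizedCharacter G (f i)) : IsGeneralizedCharacter G (∑ i ∈ s, f i) :=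
  Finset.sum_induction f (IsGeneralizedCharacter G) (fun _ _ => IsGeneralizedCharacter.add)
    virt_zero hf

theorem _root_.Cfsg.IsGeneralizedCharacter.comp {H : Type v} [Group H] {α : G → ℂ}
    (hα : IsGeneralizedCharacter G α) (f : H →* G) :
    IsGeneralizedCharacter H (fun h => α (f h)) := by
  obtain ⟨χ, ψ, hχ, hψ, rfl⟩ := hα
  exact ⟨_, _, hχ.comp f, hψ.comp f, rfl⟩

theorem _root_.Cfsg.IsGeneralizedCharacter.restrict {α : G → ℂ}
    (hα : IsGeneralizedCharacter G α) (H : Subgroup G) :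
    IsGeneralizedCharacter H (fun h => α h) := hα.comp H.subtype

theorem _root_.Cfsg.IsGeneralizedCharacter.exists_int_one {α : G → ℂ}
    (hα : IsGeneralizedCharacter G α) : ∃ n : ℤ, α 1 = n := by
  obtain ⟨χ, ψ, hχ, hψ, rfl⟩ := hα
  obtain ⟨n, hn⟩ := hχ.exists_degree
  obtain ⟨m, hm⟩ := hψ.exists_degree
  exact ⟨n - m, by simp [hn, hm]⟩

variable [Finite G]

theorem _root_.Cfsg.IsGeneralizedCharacter.conjFun {α : G → ℂ}
    (hα : IsGeneralizedCharacter G α) : IsGeneralizedCharacter G (conjFun α) := by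
  obtain ⟨χ, ψ, hχ, hψ, rfl⟩ := hα
  exact ⟨_, _, hχ.conjFun, hψ.conjFun, conjFun_sub _ _⟩

theorem _root_.Cfsg.IsGeneralizedCharacter.apply_inv {α : G → ℂ}
    (hα : IsGeneralizedCharacter G α) (g : G) : α g⁻¹ = conj (α g) := by
  obtain ⟨χ, ψ, hχ, hψ, rfl⟩ := hα
  simp [hχ.apply_inv, hψ.apply_inv]

theorem _root_.Cfsg.IsGeneralizedCharacter.conj_one {α : G → ℂ}
    (hα : IsGeneralizedCharacter G α) : conj (α 1) = α 1 := by
  rw [← hα.apply_inv, inv_one]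

/-- `φ` is an irreducible character up to sign. -/
def IsSIrr (G : Type u) [Group G] (φ : G → ℂ) : Prop :=
  IsIrrCharacter G φ ∨ IsIrrCharacter G (-φ)

theorem _root_.Cfsg.IsIrrCharacter.isSIrr {χ : G → ℂ} (h : IsIrrCharacter G χ) : IsSIrr G χ :=
  Or.inl h

theorem IsSIrr.neg {φ : G → ℂ} (h : IsSIrr G φ) : IsSIrr G (-φ) := by
  rcases h with h | h
  · right; rwa [neg_neg]
  · left; exact h

theorem IsSIrr.virt {φ : G → ℂ} (h : IsSIrr G φ) : IsGeneralizedCharacter G φ := by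
  rcases h with h | h
  · exact h.virt
  · simpa using h.virt.neg

theorem IsSIrr.isClassFunction {φ : G → ℂ} (h : IsSIrr G φ) : IsClassFunction G φ :=
  h.virt.isClassFunction

theorem IsSIrr.apply_one_ne_zero {φ : G → ℂ} (h : IsSIrr G φ) : φ 1 ≠ 0 := by
  rcases h with h | h
  · exact h.apply_one_ne_zero
  · simpa using h.apply_one_ne_zero

theorem IsSIrr.conjFun {φ : G → ℂ} (h : IsSIrr G φ) : IsSIrr G (conjFun φ) := by
  rcases h with h | h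
  · exact Or.inl h.conjFun
  · right; rw [← conjFun_neg]; exact h.conjFun

theorem IsSIrr.exists_sign {φ : G → ℂ} (h : IsSIrr G φ) :
    ∃ (ε : ℤ) (χ : G → ℂ), (ε = 1 ∨ ε = -1) ∧ IsIrrCharacter G χ ∧ φ = (ε : ℂ) • χ := by
  rcases h with h | h
  · exact ⟨1, φ, Or.inl rfl, h, by simp⟩
  · exact ⟨-1, -φ, Or.inr rfl, h, by simp⟩

theorem isSIrr_smul {χ : G → ℂ} (hχ : IsIrrCharacter G χ) {ε : ℂ} (hε : ε = 1 ∨ ε = -1) :
    IsSIrr G (ε • χ) := by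
  rcases hε with rfl | rfl
  · left; simpa using hχ
  · right; simpa using hχ

theorem IsSIrr.smul {χ : G → ℂ} (hχ : IsSIrr G χ) {ε : ℂ} (hε : ε = 1 ∨ ε = -1) :
    IsSIrr G (ε • χ) := by
  rcases hε with rfl | rfl
  · simpa using hχ
  · simpa using hχ.neg

/-- A signed irreducible with positive degree is irreducible. -/
theorem IsSIrr.isIrr_of_pos {φ : G → ℂ} (h : IsSIrr G φ) (hpos : 0 < (φ 1).re) :
    IsIrrCharacter G φ := by
  rcases h with h | h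
  · exact h
  · obtain ⟨n, hn, h1⟩ := h.exists_degree
    have : φ 1 = -n := by rw [← h1]; simp
    rw [this] at hpos
    simp at hpos
    exact absurd hpos (not_lt.2 (Nat.cast_nonneg n))

theorem _root_.Cfsg.IsIrrCharacter.re_one_pos {φ : G → ℂ} (h : IsIrrCharacter G φ) :
    0 < (φ 1).re := by
  obtain ⟨n, hn, h1⟩ := h.exists_degree
  rw [h1]; simpa using hn

theorem _root_.Cfsg.IsIrrCharacter.one_le_re_one {φ : G → ℂ} (h : IsIrrCharacter G φ) :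
    1 ≤ (φ 1).re := by
  obtain ⟨n, hn, h1⟩ := h.exists_degree
  rw [h1]; simpa using Nat.succ_le_of_lt hn

theorem _root_.Cfsg.IsCharacter.re_one_nonneg {φ : G → ℂ} (h : IsCharacter G φ) :
    0 ≤ (φ 1).re := by
  obtain ⟨n, h1⟩ := h.exists_degree
  rw [h1]; simp

theorem _root_.Cfsg.IsIrrCharacter.ne_neg {φ ψ : G → ℂ} (h : IsIrrCharacter G φ)
    (h' : IsIrrCharacter G ψ) : φ ≠ -ψ := by
  intro e
  have h1 := h.re_one_pos
  have h2 := h'.re_one_pos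
  rw [e] at h1
  simp at h1
  linarith

end General

section Inner

variable {G : Type u} [Group G] [Fintype G]

theorem _root_.Cfsg.IsGeneralizedCharacter.ci_int {α β : G → ℂ} (hα : IsGeneralizedCharacter G α)
    (hβ : IsGeneralizedCharacter G β) : ∃ n : ℤ, ⟪α, β⟫ = n := by
  obtain ⟨χ, ψ, hχ, hψ, rfl⟩ := hα
  obtain ⟨χ', ψ', hχ', hψ', rfl⟩ := hβ
  obtain ⟨a, ha⟩ := hχ.ci_nat hχ'
  obtain ⟨b, hb⟩ := hχ.ci_nat hψ'
  obtain ⟨c, hc⟩ := hψ.ci_nat hχ'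
  obtain ⟨d, hd⟩ := hψ.ci_nat hψ'
  refine ⟨a - b - (c - d), ?_⟩
  rw [ci_sub_left, ci_sub_right, ci_sub_right, ha, hb, hc, hd]
  push_cast; ring

theorem _root_.Cfsg.IsGeneralizedCharacter.ci_comm {α β : G → ℂ} (hα : IsGeneralizedCharacter G α)
    (hβ : IsGeneralizedCharacter G β) : ⟪α, β⟫ = ⟪β, α⟫ := by
  obtain ⟨n, hn⟩ := hα.ci_int hβ
  rw [hn, ci_symm_of_int hn]

theorem virt_of_ci_int {f : G → ℂ} (hf : IsClassFunction G f)
    (h : ∀ χ, IsIrrCharacter G χ → ∃ n : ℤ, ⟪f, χ⟫ = n) : IsGeneralizedCharacter G f := by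
  rw [hf.eq_sum_irr]
  exact virt_sum _ _ fun χ hχ => (mem_Irr.1 hχ).virt.smul_of_int (h χ (mem_Irr.1 hχ))

/-- The integer-valued inner product (meaningful for virtual characters). -/
noncomputable def zi (α β : G → ℂ) : ℤ := ⌊(⟪α, β⟫).re⌋

theorem zi_eq_of_ci {α β : G → ℂ} {n : ℤ} (h : ⟪α, β⟫ = n) : zi α β = n := by
  simp [zi, h]

theorem _root_.Cfsg.IsGeneralizedCharacter.ci_eq_zi {α β : G → ℂ}
    (hα : IsGeneralizedCharacter G α) (hβ : IsGeneralizedCharacter G β) :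
    ⟪α, β⟫ = (zi α β : ℂ) := by
  obtain ⟨n, hn⟩ := hα.ci_int hβ
  rw [zi_eq_of_ci hn, hn]

theorem _root_.Cfsg.IsGeneralizedCharacter.nsq_eq_sum_zi {α : G → ℂ}
    (hα : IsGeneralizedCharacter G α) : nsq α = ∑ χ ∈ Irr G, ((zi α χ : ℝ)) ^ 2 := by
  rw [hα.isClassFunction.nsq_eq_sum_irr]
  refine Finset.sum_congr rfl fun χ hχ => ?_
  rw [hα.ci_eq_zi (mem_Irr.1 hχ).virt, Complex.norm_intCast, sq_abs]

theorem _root_.Cfsg.IsGeneralizedCharacter.eq_sum_zi {α : G → ℂ}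
    (hα : IsGeneralizedCharacter G α) : α = ∑ χ ∈ Irr G, (zi α χ) • χ := by
  conv_lhs => rw [hα.isClassFunction.eq_sum_irr]
  refine Finset.sum_congr rfl fun χ hχ => ?_
  rw [hα.ci_eq_zi (mem_Irr.1 hχ).virt, Int.cast_smul_eq_zsmul]

theorem _root_.Cfsg.IsGeneralizedCharacter.nsq_nat {α : G → ℂ}
    (hα : IsGeneralizedCharacter G α) : ∃ n : ℕ, nsq α = n := by
  obtain ⟨n, hn⟩ := hα.ci_int hα
  have h1 : nsq α = n := nsq_eq_of_ci (by rw [hn]; simp)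
  have h2 := nsq_nonneg α
  rw [h1] at h2
  lift n to ℕ using (by exact_mod_cast h2)
  exact ⟨n, by simpa using h1⟩

theorem _root_.Cfsg.IsGeneralizedCharacter.one_le_nsq {α : G → ℂ}
    (hα : IsGeneralizedCharacter G α) (h : α ≠ 0) : 1 ≤ nsq α := by
  obtain ⟨n, hn⟩ := hα.nsq_nat
  have := nsq_pos h
  rw [hn] at this ⊢
  exact_mod_cast this

theorem _root_.Cfsg.IsGeneralizedCharacter.eq_zero_of_nsq_lt_one {α : G → ℂ}
    (hα : IsGeneralizedCharacter G α) (h : nsq α < 1) : α = 0 := by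
  by_contra h'
  exact absurd (hα.one_le_nsq h') (not_le.2 h)

theorem IsSIrr.ci_self {φ : G → ℂ} (h : IsSIrr G φ) : ⟪φ, φ⟫ = 1 := by
  rcases h with h | h
  · exact h.ci_self
  · have := h.ci_self
    rwa [ci_neg_left, ci_neg_right, neg_neg] at this

theorem IsSIrr.nsq {φ : G → ℂ} (h : IsSIrr G φ) : nsq φ = 1 :=
  nsq_eq_of_ci (by rw [h.ci_self]; simp)

theorem IsSIrr.ne_zero {φ : G → ℂ} (h : IsSIrr G φ) : φ ≠ 0 := by
  rintro rfl; exact h.apply_one_ne_zero rfl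

theorem IsSIrr.ne_neg_self {φ : G → ℂ} (h : IsSIrr G φ) : φ ≠ -φ := by
  intro e
  have := congrFun e 1
  simp only [Pi.neg_apply] at this
  exact h.apply_one_ne_zero (by linear_combination this / 2)

theorem IsSIrr.ci_eq_zero {φ ψ : G → ℂ} (h : IsSIrr G φ) (h' : IsSIrr G ψ) (h1 : φ ≠ ψ)
    (h2 : φ ≠ -ψ) : ⟪φ, ψ⟫ = 0 := by
  rcases h with h | h <;> rcases h' with h' | h'
  · exact h.ci_of_ne h' h1
  · have := h.ci_of_ne h' h2
    rwa [ci_neg_right, neg_eq_zero] at this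
  · have := h.ci_of_ne h' (fun e => h2 (by rw [← e, neg_neg]))
    rwa [ci_neg_left, neg_eq_zero] at this
  · have := h.ci_of_ne h' (fun e => h1 (neg_injective e))
    rwa [ci_neg_left, ci_neg_right, neg_neg] at this

theorem IsSIrr.eq_or_eq_neg_of_ci_ne_zero {φ ψ : G → ℂ} (h : IsSIrr G φ) (h' : IsSIrr G ψ)
    (hne : ⟪φ, ψ⟫ ≠ 0) : φ = ψ ∨ φ = -ψ := by
  by_contra hcon
  push Not at hcon
  exact hne (h.ci_eq_zero h' hcon.1 hcon.2)

theorem IsSIrr.ci_cases {φ ψ : G → ℂ} (h : IsSIrr G φ) (h' : IsSIrr G ψ) :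
    (φ = ψ ∧ ⟪φ, ψ⟫ = 1) ∨ (φ = -ψ ∧ ⟪φ, ψ⟫ = -1) ∨ (φ ≠ ψ ∧ φ ≠ -ψ ∧ ⟪φ, ψ⟫ = 0) := by
  by_cases h1 : φ = ψ
  · left; exact ⟨h1, by rw [h1, h'.ci_self]⟩
  by_cases h2 : φ = -ψ
  · right; left; exact ⟨h2, by rw [h2, ci_neg_left, h'.ci_self]⟩
  · right; right; exact ⟨h1, h2, h.ci_eq_zero h' h1 h2⟩

theorem IsSIrr.eq_of_ci_eq_one {φ ψ : G → ℂ} (h : IsSIrr G φ) (h' : IsSIrr G ψ)
    (h1 : ⟪φ, ψ⟫ = 1) : φ = ψ := by
  rcases h.ci_cases h' with h2 | h2 | h2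
  · exact h2.1
  · rw [h1] at h2; norm_num at h2
  · rw [h1] at h2; norm_num at h2

theorem IsSIrr.eq_neg_of_ci_eq_neg_one {φ ψ : G → ℂ} (h : IsSIrr G φ) (h' : IsSIrr G ψ)
    (h1 : ⟪φ, ψ⟫ = -1) : φ = -ψ := by
  apply h.eq_of_ci_eq_one h'.neg
  rw [ci_neg_right, h1, neg_neg]

/-- Splitting off a signed constituent of a nonzero virtual character. -/
theorem _root_.Cfsg.IsGeneralizedCharacter.exists_sirr {α : G → ℂ}
    (hα : IsGeneralizedCharacter G α) (h : α ≠ 0) :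
    ∃ (φ : G → ℂ) (n : ℕ), IsSIrr G φ ∧ 0 < n ∧ ⟪α, φ⟫ = n := by
  obtain ⟨χ, hχ, hne⟩ := hα.isClassFunction.exists_irr_ci_ne_zero h
  obtain ⟨n, hn⟩ := hα.ci_int hχ.virt
  obtain ⟨m, rfl | rfl⟩ := n.eq_nat_or_neg
  · refine ⟨χ, m, hχ.isSIrr, Nat.pos_of_ne_zero ?_, by simpa using hn⟩
    rintro rfl; exact hne (by simpa using hn)
  · refine ⟨-χ, m, hχ.isSIrr.neg, Nat.pos_of_ne_zero ?_, by rw [ci_neg_right, hn]; simp⟩
    rintro rfl; exact hne (by simpa using hn)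

theorem nsq_sub_ci_smul {α φ : G → ℂ} (hφ : ⟪φ, φ⟫ = 1) :
    nsq (α - ⟪α, φ⟫ • φ) = nsq α - ‖⟪α, φ⟫‖ ^ 2 := by
  have := nsq_eq_sum_add_nsq_orthonormal ({()} : Finset Unit) (fun _ => φ) (by simpa using hφ) α
  simp only [Finset.sum_singleton] at this
  linarith

theorem sq_le_nsq_of_ci {α φ : G → ℂ} (hφ : ⟪φ, φ⟫ = 1) {n : ℤ} (h : ⟪α, φ⟫ = n) :
    (n : ℝ) ^ 2 ≤ nsq α := by
  have h1 := nsq_sub_ci_smul (α := α) hφ
  have h2 := nsq_nonneg (α - ⟪α, φ⟫ • φ)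
  rw [h1, h, Complex.norm_intCast, sq_abs] at h2
  linarith

/-- A virtual character of norm one is an irreducible character up to sign. -/
theorem _root_.Cfsg.IsGeneralizedCharacter.isSIrr_of_nsq {α : G → ℂ}
    (hα : IsGeneralizedCharacter G α) (h : nsq α = 1) : IsSIrr G α := by
  have h0 : α ≠ 0 := by rintro rfl; rw [nsq_eq_zero.2 rfl] at h; norm_num at h
  obtain ⟨φ, n, hφ, hn, hαφ⟩ := hα.exists_sirr h0
  have h1 := nsq_sub_ci_smul (α := α) hφ.ci_self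
  have h2 := nsq_nonneg (α - ⟪α, φ⟫ • φ)
  rw [hαφ, h, Complex.norm_natCast] at h1
  rw [hαφ, h1] at h2
  have h3 : (1 : ℝ) ≤ n := by exact_mod_cast hn
  have h4 : (n : ℝ) = 1 := by nlinarith
  have h5 : n = 1 := by exact_mod_cast h4
  subst h5
  simp only [Nat.cast_one, one_smul, one_pow, sub_self] at h1
  rw [sub_eq_zero.1 (nsq_eq_zero.1 h1)]
  exact hφ

theorem _root_.Cfsg.IsGeneralizedCharacter.isSIrr_of_ci_self {α : G → ℂ}
    (hα : IsGeneralizedCharacter G α) (h : ⟪α, α⟫ = 1) : IsSIrr G α :=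
  hα.isSIrr_of_nsq (nsq_eq_of_ci (by rw [h]; simp))

/-- A virtual character of squared norm less than four has all multiplicities `0, 1, -1`. -/
theorem _root_.Cfsg.IsGeneralizedCharacter.exists_sirr_one {α : G → ℂ}
    (hα : IsGeneralizedCharacter G α) (h : α ≠ 0) (h4 : nsq α < 4) :
    ∃ φ : G → ℂ, IsSIrr G φ ∧ ⟪α, φ⟫ = 1 ∧ ⟪α - φ, φ⟫ = 0 ∧ nsq (α - φ) = nsq α - 1 := by
  obtain ⟨φ, n, hφ, hn, hαφ⟩ := hα.exists_sirr h
  have h1 := sq_le_nsq_of_ci (n := n) hφ.ci_self (by simpa using hαφ)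
  have h2 : n < 2 := by
    by_contra hcon
    have : (2 : ℝ) ≤ n := by exact_mod_cast not_lt.1 hcon
    simp only [Int.cast_natCast] at h1
    nlinarith
  obtain rfl : n = 1 := by omega
  have h3 := nsq_sub_ci_smul (α := α) hφ.ci_self
  simp only [Nat.cast_one] at hαφ
  rw [hαφ] at h3
  refine ⟨φ, hφ, hαφ, by rw [ci_sub_left, hαφ, hφ.ci_self, sub_self], by simpa using h3⟩

/-- A virtual character of squared norm two is a sum of two orthogonal signed irreducibles. -/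
theorem _root_.Cfsg.IsGeneralizedCharacter.exists_of_nsq_two {α : G → ℂ}
    (hα : IsGeneralizedCharacter G α) (h : nsq α = 2) :
    ∃ φ ψ : G → ℂ, IsSIrr G φ ∧ IsSIrr G ψ ∧ ⟪φ, ψ⟫ = 0 ∧ α = φ + ψ := by
  have h0 : α ≠ 0 := by rintro rfl; rw [nsq_eq_zero.2 rfl] at h; norm_num at h
  obtain ⟨φ, hφ, -, h2, h3⟩ := hα.exists_sirr_one h0 (by rw [h]; norm_num)
  refine ⟨φ, α - φ, hφ, (hα.sub hφ.virt).isSIrr_of_nsq (by rw [h3, h]; norm_num),
    ci_eq_zero_symm h2, by abel⟩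

/-- A virtual character of squared norm two vanishing at one is a difference of two distinct
irreducible characters. -/
theorem _root_.Cfsg.IsGeneralizedCharacter.exists_sub_of_nsq_two {α : G → ℂ}
    (hα : IsGeneralizedCharacter G α) (h : nsq α = 2) (h1 : α 1 = 0) :
    ∃ φ ψ : G → ℂ, IsIrrCharacter G φ ∧ IsIrrCharacter G ψ ∧ φ ≠ ψ ∧ α = φ - ψ := by
  obtain ⟨φ, ψ, hφ, hψ, h0, rfl⟩ := hα.exists_of_nsq_two h
  have e : (φ 1).re + (ψ 1).re = 0 := by rw [← Complex.add_re]; simpa using congrArg Complex.re h1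
  rcases hφ with hφ | hφ <;> rcases hψ with hψ | hψ
  · linarith [hφ.re_one_pos, hψ.re_one_pos]
  · refine ⟨φ, -ψ, hφ, hψ, ?_, by simp⟩
    rintro rfl
    rw [ci_neg_left, IsSIrr.ci_self (Or.inr hψ)] at h0
    norm_num at h0
  · refine ⟨ψ, -φ, hψ, hφ, ?_, by simp [add_comm]⟩
    rintro rfl
    rw [ci_neg_right, IsSIrr.ci_self (Or.inr hφ)] at h0
    norm_num at h0
  · have h2 := hφ.re_one_pos
    have h3 := hψ.re_one_pos
    simp only [Pi.neg_apply, Complex.neg_re] at h2 h3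
    linarith

end Inner

/-! ### Integer spans -/

section Span

variable {X : Type u}

theorem mem_zspan_iff {S : Set (X → ℂ)} {α : X → ℂ} : α ∈ zspan S ↔ α ∈ Submodule.span ℤ S :=
  Iff.rfl

theorem mem_zspan_of_mem {S : Set (X → ℂ)} {α : X → ℂ} (h : α ∈ S) : α ∈ zspan S :=
  Submodule.subset_span h

theorem zero_mem_zspan (S : Set (X → ℂ)) : (0 : X → ℂ) ∈ zspan S := Submodule.zero_mem _

theorem add_mem_zspan {S : Set (X → ℂ)} {α β : X → ℂ} (hα : α ∈ zspan S) (hβ : β ∈ zspan S) :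
    α + β ∈ zspan S := Submodule.add_mem _ hα hβ

theorem sub_mem_zspan {S : Set (X → ℂ)} {α β : X → ℂ} (hα : α ∈ zspan S) (hβ : β ∈ zspan S) :
    α - β ∈ zspan S := Submodule.sub_mem _ hα hβ

theorem neg_mem_zspan {S : Set (X → ℂ)} {α : X → ℂ} (hα : α ∈ zspan S) :
    -α ∈ zspan S := Submodule.neg_mem _ hα

theorem zsmul_mem_zspan {S : Set (X → ℂ)} {α : X → ℂ} (n : ℤ) (hα : α ∈ zspan S) :
    n • α ∈ zspan S := Submodule.smul_mem _ n hα

theorem intCast_smul_mem_zspan {S : Set (X → ℂ)} {α : X → ℂ} (n : ℤ) (hα : α ∈ zspan S) :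
    (n : ℂ) • α ∈ zspan S := by
  rw [Int.cast_smul_eq_zsmul]; exact zsmul_mem_zspan n hα

theorem natCast_smul_mem_zspan {S : Set (X → ℂ)} {α : X → ℂ} (n : ℕ) (hα : α ∈ zspan S) :
    (n : ℂ) • α ∈ zspan S := by
  simpa using intCast_smul_mem_zspan (n : ℤ) hα

theorem smul_mem_zspan_of_int {S : Set (X → ℂ)} {α : X → ℂ} {c : ℂ} (hc : ∃ n : ℤ, c = n)
    (hα : α ∈ zspan S) : c • α ∈ zspan S := by
  obtain ⟨n, rfl⟩ := hc; exact intCast_smul_mem_zspan n hα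

theorem sum_mem_zspan {S : Set (X → ℂ)} {ι : Type*} {s : Finset ι} {f : ι → X → ℂ}
    (h : ∀ i ∈ s, f i ∈ zspan S) : ∑ i ∈ s, f i ∈ zspan S := Submodule.sum_mem _ h

theorem zspan_mono {S T : Set (X → ℂ)} (h : S ⊆ T) : zspan S ⊆ zspan T :=
  Submodule.span_mono h

theorem zspan_subset_of_subset {S T : Set (X → ℂ)} (h : S ⊆ zspan T) : zspan S ⊆ zspan T :=
  Submodule.span_le.2 h

theorem zspanOn_mono {S T : Set (X → ℂ)} (h : S ⊆ T) (A : Set X) : zspanOn S A ⊆ zspanOn T A :=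
  fun _ hα => ⟨zspan_mono h hα.1, hα.2⟩

theorem zspanOn_subset (S : Set (X → ℂ)) (A : Set X) : zspanOn S A ⊆ zspan S := fun _ hα => hα.1

theorem mem_zspanOn_one [One X] {S : Set (X → ℂ)} {α : X → ℂ} :
    α ∈ zspanOn S {1}ᶜ ↔ α ∈ zspan S ∧ α 1 = 0 := by
  simp [zspanOn]

theorem zspan_induction {S : Set (X → ℂ)} {P : (X → ℂ) → Prop} (hS : ∀ α ∈ S, P α) (h0 : P 0)
    (hadd : ∀ α β, α ∈ zspan S → β ∈ zspan S → P α → P β → P (α + β))
    (hsmul : ∀ (n : ℤ) α, α ∈ zspan S → P α → P (n • α)) {α : X → ℂ} (hα : α ∈ zspan S) : P α :=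
  Submodule.span_induction (p := fun α _ => P α) hS h0 hadd hsmul hα

theorem mem_zspan_finset {S : Finset (X → ℂ)} {α : X → ℂ} :
    α ∈ zspan (S : Set (X → ℂ)) ↔ ∃ c : (X → ℂ) → ℤ, α = ∑ χ ∈ S, c χ • χ := by
  rw [mem_zspan_iff, Submodule.mem_span_finset]
  constructor
  · rintro ⟨c, -, h⟩; exact ⟨c, h.symm⟩
  · rintro ⟨c, rfl⟩
    classical
    refine ⟨fun χ => if χ ∈ S then c χ else 0, ?_, ?_⟩
    · intro χ hχ
      by_contra h
      exact hχ (if_neg h)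
    · exact Finset.sum_congr rfl fun χ hχ => by simp [hχ]

theorem zero_mem_zspanOn (S : Set (X → ℂ)) (A : Set X) : (0 : X → ℂ) ∈ zspanOn S A :=
  ⟨zero_mem_zspan S, fun _ _ => rfl⟩

theorem add_mem_zspanOn {S : Set (X → ℂ)} {A : Set X} {α β : X → ℂ} (hα : α ∈ zspanOn S A)
    (hβ : β ∈ zspanOn S A) : α + β ∈ zspanOn S A :=
  ⟨add_mem_zspan hα.1 hβ.1, fun x hx => by simp [hα.2 x hx, hβ.2 x hx]⟩

theorem sub_mem_zspanOn {S : Set (X → ℂ)} {A : Set X} {α β : X → ℂ} (hα : α ∈ zspanOn S A)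
    (hβ : β ∈ zspanOn S A) : α - β ∈ zspanOn S A :=
  ⟨sub_mem_zspan hα.1 hβ.1, fun x hx => by simp [hα.2 x hx, hβ.2 x hx]⟩

theorem zsmul_mem_zspanOn {S : Set (X → ℂ)} {A : Set X} {α : X → ℂ} (n : ℤ)
    (hα : α ∈ zspanOn S A) : n • α ∈ zspanOn S A :=
  ⟨zsmul_mem_zspan n hα.1, fun x hx => by simp [hα.2 x hx]⟩

variable {G : Type u} [Group G]

theorem virt_of_mem_zspan {S : Set (G → ℂ)} (hS : ∀ χ ∈ S, IsGeneralizedCharacter G χ)
    {α : G → ℂ} (hα : α ∈ zspan S) : IsGeneralizedCharacter G α :=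
  zspan_induction hS virt_zero (fun _ _ _ _ => IsGeneralizedCharacter.add)
    (fun n _ _ h => h.zsmul n) hα

theorem ci_eq_zero_of_mem_zspan [Fintype G] {S : Set (G → ℂ)} {β : G → ℂ}
    (hS : ∀ χ ∈ S, ⟪χ, β⟫ = 0) {α : G → ℂ} (hα : α ∈ zspan S) : ⟪α, β⟫ = 0 :=
  zspan_induction (P := fun α => ⟪α, β⟫ = 0) hS (ci_zero_left _)
    (fun _ _ _ _ h h' => by rw [ci_add_left, h, h', add_zero])
    (fun n _ _ h => by rw [ci_zsmul_left, h, mul_zero]) hα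

theorem conjFun_mem_zspan {S : Set (X → ℂ)} (hS : ∀ χ ∈ S, conjFun χ ∈ S) {α : X → ℂ}
    (hα : α ∈ zspan S) : conjFun α ∈ zspan S :=
  zspan_induction (P := fun α => conjFun α ∈ zspan S) (fun χ hχ => mem_zspan_of_mem (hS χ hχ))
    (by rw [conjFun_zero]; exact zero_mem_zspan S)
    (fun _ _ _ _ h h' => by rw [conjFun_add]; exact add_mem_zspan h h')
    (fun n _ _ h => by rw [conjFun_zsmul]; exact zsmul_mem_zspan n h) hα

/-- Two linear maps that agree on `S` agree on its integer span. -/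
theorem linearMap_eq_of_mem_zspan {Y : Type v} {S : Set (X → ℂ)} {T T' : (X → ℂ) →ₗ[ℂ] (Y → ℂ)}
    (h : ∀ χ ∈ S, T χ = T' χ) {α : X → ℂ} (hα : α ∈ zspan S) : T α = T' α :=
  zspan_induction (P := fun α => T α = T' α) h (by simp)
    (fun _ _ _ _ h h' => by rw [map_add, map_add, h, h'])
    (fun n _ _ h => by rw [map_zsmul, map_zsmul, h]) hα

end Span

/-! ### Isometries -/

section Isometry

variable {L : Type u} [Group L] [Fintype L] {G : Type v} [Group G] [Fintype G]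

/-- A map preserving inner products on a set extends to a complex-linear map. -/
theorem exists_linearMap_of_isometry (E : Set (L → ℂ)) (τ : (L → ℂ) → (G → ℂ))
    (h : ∀ α ∈ E, ∀ β ∈ E, ⟪τ α, τ β⟫ = ⟪α, β⟫) :
    ∃ T : (L → ℂ) →ₗ[ℂ] (G → ℂ), ∀ α ∈ E, T α = τ α := by
  let F : (E →₀ ℂ) →ₗ[ℂ] (L → ℂ) := Finsupp.linearCombination ℂ (fun a : E => a.1)
  let F' : (E →₀ ℂ) →ₗ[ℂ] (G → ℂ) := Finsupp.linearCombination ℂ (fun a : E => τ a.1)
  have key : ∀ c : E →₀ ℂ, ⟪F' c, F' c⟫ = ⟪F c, F c⟫ := by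
    intro c
    simp only [F, F', Finsupp.linearCombination_apply, Finsupp.sum, ci_sum_left, ci_sum_right,
      ci_smul_left, ci_smul_right]
    refine Finset.sum_congr rfl fun a _ => ?_
    congr 1
    refine Finset.sum_congr rfl fun b _ => ?_
    rw [h _ b.2 _ a.2]
  have hker : LinearMap.ker F ≤ LinearMap.ker F' := by
    intro c hc
    rw [LinearMap.mem_ker] at hc ⊢
    rw [← ci_self_eq_zero, key, hc, ci_zero_left]
  obtain ⟨T, hT⟩ := LinearMap.exists_extend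
    (((LinearMap.ker F).liftQ F' hker).comp F.quotKerEquivRange.symm.toLinearMap)
  refine ⟨T, fun α hα => ?_⟩
  have h1 : F (Finsupp.single ⟨α, hα⟩ 1) = α := by simp [F]
  have h2 : F' (Finsupp.single ⟨α, hα⟩ 1) = τ α := by simp [F']
  have h3 := LinearMap.congr_fun hT ⟨F (Finsupp.single ⟨α, hα⟩ 1), LinearMap.mem_range_self _ _⟩
  simp only [LinearMap.coe_comp, Submodule.coe_subtype, Function.comp_apply, LinearEquiv.coe_coe,
    LinearMap.quotKerEquivRange_symm_apply_image, Submodule.mkQ_apply,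
    Submodule.liftQ_apply] at h3
  rw [← h2, ← h3, h1]

theorem _root_.Cfsg.IsLinearIsometryOn.exists_linearMap {E : Set (L → ℂ)}
    {τ : (L → ℂ) → (G → ℂ)} (h : IsLinearIsometryOn E τ) :
    ∃ T : (L → ℂ) →ₗ[ℂ] (G → ℂ), ∀ α ∈ E, T α = τ α :=
  exists_linearMap_of_isometry E τ h.2.2.1

theorem _root_.Cfsg.IsLinearIsometryOn.ci_eq {E : Set (L → ℂ)} {τ : (L → ℂ) → (G → ℂ)}
    (h : IsLinearIsometryOn E τ) {α β : L → ℂ} (hα : α ∈ E) (hβ : β ∈ E) :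
    ⟪τ α, τ β⟫ = ⟪α, β⟫ := h.2.2.1 α hα β hβ

theorem _root_.Cfsg.IsLinearIsometryOn.nsq_eq {E : Set (L → ℂ)} {τ : (L → ℂ) → (G → ℂ)}
    (h : IsLinearIsometryOn E τ) {α : L → ℂ} (hα : α ∈ E) : nsq (τ α) = nsq α :=
  nsq_eq_of_ci (by rw [h.ci_eq hα hα, ci_self])

theorem _root_.Cfsg.IsLinearIsometryOn.virt {E : Set (L → ℂ)} {τ : (L → ℂ) → (G → ℂ)}
    (h : IsLinearIsometryOn E τ) {α : L → ℂ} (hα : α ∈ E) : IsGeneralizedCharacter G (τ α) :=
  h.2.2.2 α hα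

theorem _root_.Cfsg.IsLinearIsometryOn.mono {E E' : Set (L → ℂ)} {τ : (L → ℂ) → (G → ℂ)}
    (h : IsLinearIsometryOn E τ) (hE : E' ⊆ E) : IsLinearIsometryOn E' τ :=
  ⟨fun α hα β hβ => h.1 α (hE hα) β (hE hβ), fun α hα => h.2.1 α (hE hα),
    fun α hα β hβ => h.2.2.1 α (hE hα) β (hE hβ), fun α hα => h.2.2.2 α (hE hα)⟩

theorem isLinearIsometryOn_of_linearMap {E : Set (L → ℂ)} (T : (L → ℂ) →ₗ[ℂ] (G → ℂ))
    (h : ∀ α ∈ E, ∀ β ∈ E, ⟪T α, T β⟫ = ⟪α, β⟫) (hv : ∀ α ∈ E, IsGeneralizedCharacter G (T α)) :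
    IsLinearIsometryOn E T :=
  ⟨fun _ _ _ _ => map_add _ _ _, fun _ _ _ => map_zsmul _ _ _, h, hv⟩

/-- A linear map that is an isometry into virtual characters on `S` is one on the span of `S`. -/
theorem isLinearIsometryOn_zspan {S : Set (L → ℂ)} (T : (L → ℂ) →ₗ[ℂ] (G → ℂ))
    (h : ∀ α ∈ S, ∀ β ∈ S, ⟪T α, T β⟫ = ⟪α, β⟫) (hv : ∀ α ∈ S, IsGeneralizedCharacter G (T α)) :
    IsLinearIsometryOn (zspan S) T := by
  refine isLinearIsometryOn_of_linearMap T (fun α hα β hβ => ?_) (fun α hα => ?_)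
  · refine zspan_induction (P := fun α => ⟪T α, T β⟫ = ⟪α, β⟫) (fun α hα => ?_) (by simp)
      (fun _ _ _ _ h h' => by rw [map_add, ci_add_left, ci_add_left, h, h'])
      (fun n _ _ h => by rw [map_zsmul, ci_zsmul_left, ci_zsmul_left, h]) hα
    exact zspan_induction (P := fun β => ⟪T α, T β⟫ = ⟪α, β⟫) (fun β hβ => h α hα β hβ) (by simp)
      (fun _ _ _ _ h h' => by rw [map_add, ci_add_right, ci_add_right, h, h'])
      (fun n _ _ h => by rw [map_zsmul, ci_zsmul_right, ci_zsmul_right, h]) hβ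
  · exact zspan_induction (P := fun α => IsGeneralizedCharacter G (T α)) hv
      (by rw [map_zero]; exact virt_zero)
      (fun _ _ _ _ h h' => by rw [map_add]; exact h.add h')
      (fun n _ _ h => by rw [map_zsmul]; exact h.zsmul n) hα

/-- An isometric assignment of virtual characters on `S` extends to an isometry on the span. -/
theorem exists_isometry_zspan (S : Set (L → ℂ)) (f : (L → ℂ) → (G → ℂ))
    (h : ∀ α ∈ S, ∀ β ∈ S, ⟪f α, f β⟫ = ⟪α, β⟫) (hv : ∀ α ∈ S, IsGeneralizedCharacter G (f α)) :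
    ∃ T : (L → ℂ) →ₗ[ℂ] (G → ℂ), (∀ α ∈ S, T α = f α) ∧ IsLinearIsometryOn (zspan S) T := by
  obtain ⟨T, hT⟩ := exists_linearMap_of_isometry S f h
  refine ⟨T, hT, isLinearIsometryOn_zspan T (fun α hα β hβ => ?_) (fun α hα => ?_)⟩
  · rw [hT α hα, hT β hβ, h α hα β hβ]
  · rw [hT α hα]; exact hv α hα

theorem _root_.Cfsg.IsLinearIsometryOn.congr_linear {E : Set (L → ℂ)} {τ : (L → ℂ) → (G → ℂ)}
    (h : IsLinearIsometryOn E τ) {T : (L → ℂ) →ₗ[ℂ] (G → ℂ)} (hT : ∀ α ∈ E, T α = τ α) :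
    IsLinearIsometryOn E T :=
  isLinearIsometryOn_of_linearMap T (fun α hα β hβ => by rw [hT α hα, hT β hβ, h.ci_eq hα hβ])
    (fun α hα => by rw [hT α hα]; exact h.virt hα)

/-- A coherent set has a complex-linear extension. -/
theorem _root_.Cfsg.IsCoherent.exists_linearMap {S : Set (L → ℂ)} {A : Set L}
    {τ : (L → ℂ) → (G → ℂ)} (h : IsCoherent S A τ) :
    ∃ T : (L → ℂ) →ₗ[ℂ] (G → ℂ), IsLinearIsometryOn (zspan S) T ∧
      ∀ α ∈ zspanOn S A, T α = τ α := by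
  obtain ⟨-, τ₁, h1, h2⟩ := h
  obtain ⟨T, hT⟩ := h1.exists_linearMap
  exact ⟨T, h1.congr_linear hT, fun α hα => by rw [hT α hα.1, h2 α hα]⟩

theorem _root_.Cfsg.IsCoherent.congr {S : Set (L → ℂ)} {A : Set L}
    {τ τ' : (L → ℂ) → (G → ℂ)} (h : IsCoherent S A τ) (h' : ∀ α ∈ zspanOn S A, τ α = τ' α) :
    IsCoherent S A τ' := by
  obtain ⟨h0, τ₁, h1, h2⟩ := h
  exact ⟨h0, τ₁, h1, fun α hα => by rw [h2 α hα, h' α hα]⟩

theorem _root_.Cfsg.IsCoherent.subset {S S' : Set (L → ℂ)} {A : Set L}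
    {τ : (L → ℂ) → (G → ℂ)} (h : IsCoherent S A τ) (hS : S' ⊆ S)
    (h0 : ∃ α ∈ zspanOn S' A, α ≠ 0) : IsCoherent S' A τ := by
  obtain ⟨-, τ₁, h1, h2⟩ := h
  exact ⟨h0, τ₁, h1.mono (zspan_mono hS), fun α hα => h2 α (zspanOn_mono hS A hα)⟩

/-- Two linear maps agree on the degree zero part of `ℤ[S]` as soon as they agree on the
elements `χ₀(1) χ - χ(1) χ₀`. -/
theorem linearMap_eq_on_degree_zero {S : Set (L → ℂ)} {T T' : (L → ℂ) →ₗ[ℂ] (G → ℂ)}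
    {χ₀ : L → ℂ} (h0 : χ₀ 1 ≠ 0)
    (h : ∀ χ ∈ S, T (χ₀ 1 • χ - χ 1 • χ₀) = T' (χ₀ 1 • χ - χ 1 • χ₀)) {α : L → ℂ}
    (hα : α ∈ zspanOn S {1}ᶜ) : T α = T' α := by
  rw [mem_zspanOn_one] at hα
  have key : T (χ₀ 1 • α - α 1 • χ₀) = T' (χ₀ 1 • α - α 1 • χ₀) := by
    refine zspan_induction
      (P := fun α => T (χ₀ 1 • α - α 1 • χ₀) = T' (χ₀ 1 • α - α 1 • χ₀)) h (by simp) ?_ ?_ hα.1
    · intro a b _ _ ha hb
      have : χ₀ 1 • (a + b) - (a + b) 1 • χ₀ = (χ₀ 1 • a - a 1 • χ₀) + (χ₀ 1 • b - b 1 • χ₀) := by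
        simp only [Pi.add_apply, smul_add, add_smul]; abel
      rw [this, map_add, map_add, ha, hb]
    · intro n a _ ha
      have : χ₀ 1 • (n • a) - (n • a) 1 • χ₀ = n • (χ₀ 1 • a - a 1 • χ₀) := by
        funext x; simp; ring
      rw [this, map_zsmul, map_zsmul, ha]
  rw [hα.2, zero_smul, sub_zero, map_smul, map_smul] at key
  exact smul_right_injective _ h0 key

theorem degree_comb_mem_zspanOn {S : Set (L → ℂ)} {χ χ₀ : L → ℂ} (hχ : χ ∈ zspan S)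
    (hχ₀ : χ₀ ∈ zspan S) (h : ∃ n : ℤ, χ 1 = n) (h₀ : ∃ n : ℤ, χ₀ 1 = n) :
    χ₀ 1 • χ - χ 1 • χ₀ ∈ zspanOn S {1}ᶜ := by
  rw [mem_zspanOn_one]
  exact ⟨sub_mem_zspan (smul_mem_zspan_of_int h₀ hχ) (smul_mem_zspan_of_int h hχ₀),
    by simp [mul_comm]⟩

/-- Main criterion for coherence. -/
theorem isCoherent_of_map {S : Set (L → ℂ)} {τ : (L → ℂ) → (G → ℂ)}
    (hτ : IsLinearIsometryOn (zspanOn S {1}ᶜ) τ) (hS : ∀ χ ∈ S, ∃ n : ℤ, χ 1 = n)
    (hne : ∃ α ∈ zspanOn S {1}ᶜ, α ≠ 0) (f : (L → ℂ) → (G → ℂ))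
    (h : ∀ α ∈ S, ∀ β ∈ S, ⟪f α, f β⟫ = ⟪α, β⟫) (hv : ∀ α ∈ S, IsGeneralizedCharacter G (f α))
    {χ₀ : L → ℂ} (hχ₀ : χ₀ ∈ S) (h0 : χ₀ 1 ≠ 0)
    (hagree : ∀ χ ∈ S, τ (χ₀ 1 • χ - χ 1 • χ₀) = χ₀ 1 • f χ - χ 1 • f χ₀) :
    IsCoherent S {1}ᶜ τ := by
  obtain ⟨T, hT, hT'⟩ := exists_isometry_zspan S f h hv
  obtain ⟨T₀, hT₀⟩ := hτ.exists_linearMap
  refine ⟨hne, T, hT', fun α hα => ?_⟩
  rw [← hT₀ α hα]
  refine linearMap_eq_on_degree_zero h0 (fun χ hχ => ?_) hα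
  rw [hT₀ _ (degree_comb_mem_zspanOn (mem_zspan_of_mem hχ) (mem_zspan_of_mem hχ₀) (hS χ hχ)
    (hS χ₀ hχ₀)), hagree χ hχ, map_sub, map_smul, map_smul, hT χ hχ, hT χ₀ hχ₀]

end Isometry

end Cfsg.Agent.Char
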