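import Cfsg.Agent.Char.Clifford

/-!
# Algebraic integers, central characters, Galois conjugation of characters
-/

set_option autoImplicit false
set_option linter.unusedSectionVars false

namespace Cfsg.Agent.Char

open Cfsg
open scoped ComplexConjugate

universe u v w

section Numbers

theorem isIntegral_of_pow_eq_one {z : ℂ} {n : ℕ} (hn : 0 < n) (h : z ^ n = 1) : IsIntegral ℤ z :=
  IsIntegral.of_pow hn (h ▸ isIntegral_one)

theorem isIntegral_intCast (n : ℤ) : IsIntegral ℤ (n : ℂ) := by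
  simpa using isIntegral_algebraMap (R := ℤ) (A := ℂ) (x := n)

theorem isIntegral_natCast (n : ℕ) : IsIntegral ℤ (n : ℂ) := by
  simpa using isIntegral_intCast n

theorem exists_int_of_isIntegral_of_rat {x : ℂ} (hx : IsIntegral ℤ x) (h : ∃ q : ℚ, x = q) :
    ∃ n : ℤ, x = n := hx.exists_int_iff_exists_rat.1 h

/-- If `a / b` is an algebraic integer then `b ∣ a`. -/
theorem int_dvd_of_isIntegral {a b : ℤ} {ω : ℂ} (hω : IsIntegral ℤ ω) (hb : b ≠ 0)
    (h : (a : ℂ) = b * ω) : b ∣ a := by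
  have hb' : (b : ℂ) ≠ 0 := by exact_mod_cast hb
  obtain ⟨n, hn⟩ := exists_int_of_isIntegral_of_rat hω ⟨a / b, by
    push_cast; rw [h]; field_simp⟩
  rw [hn] at h
  exact ⟨n, by exact_mod_cast h⟩

theorem isIntegral_conj {x : ℂ} (hx : IsIntegral ℤ x) : IsIntegral ℤ (conj x) :=
  hx.map (starRingEnd ℂ).toIntAlgHom

/-- Reduction of algebraic integers modulo a prime above `p`. -/
theorem exists_reduction (p : ℕ) (hp : p.Prime) :
    ∃ (F : Type) (_ : Field F) (_ : CharP F p), Nonempty (integralClosure ℤ ℂ →+* F) := by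
  let R := integralClosure ℤ ℂ
  have hI : Ideal.span {(p : R)} ≠ ⊤ := by
    rw [Ne, Ideal.span_singleton_eq_top]
    intro hu
    obtain ⟨y, hy⟩ := hu.exists_right_inv
    have h1 : ((1 : ℤ) : ℂ) = (p : ℤ) * (y : ℂ) := by
      have := congrArg (fun x : R => (x : ℂ)) hy
      simpa using this.symm
    have := int_dvd_of_isIntegral y.2 (by exact_mod_cast hp.ne_zero) h1
    exact hp.one_lt.ne' (by exact_mod_cast Int.eq_one_of_dvd_one (by positivity) this)
  obtain ⟨m, hm, hle⟩ := Ideal.exists_le_maximal _ hI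
  let _ := Ideal.Quotient.field m
  refine ⟨R ⧸ m, inferInstance, ?_, ⟨Ideal.Quotient.mk m⟩⟩
  have : Fact p.Prime := ⟨hp⟩
  refine (CharP.charP_iff_prime_eq_zero hp).2 ?_
  rw [← map_natCast (Ideal.Quotient.mk m), Ideal.Quotient.eq_zero_iff_mem]
  exact hle (Ideal.mem_span_singleton_self _)

theorem reduction_root_eq_one {p : ℕ} (hp : p.Prime) {F : Type*} [Field F] [CharP F p] {x : F}
    {k : ℕ} (h : x ^ p ^ k = 1) : x = 1 := by
  have : Fact p.Prime := ⟨hp⟩
  have h1 : (x - 1) ^ p ^ k = 0 := by rw [sub_pow_char_pow, h, one_pow, sub_self]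
  exact sub_eq_zero.1 (pow_eq_zero_iff (pow_ne_zero k hp.ne_zero) |>.1 h1)

/-- If an integer is a multiple of `1 - ε` for a `p`-power root of unity `ε`, it is divisible
by `p`. -/
theorem prime_dvd_of_eq_one_sub_mul {p : ℕ} (hp : p.Prime) {ε : ℂ} {k : ℕ} (hε : ε ^ p ^ k = 1)
    {n : ℤ} {ω : ℂ} (hω : IsIntegral ℤ ω) (h : (n : ℂ) = (1 - ε) * ω) : (p : ℤ) ∣ n := by
  obtain ⟨F, _, _, ⟨φ⟩⟩ := exists_reduction p hp
  let e : integralClosure ℤ ℂ := ⟨ε, isIntegral_of_pow_eq_one (pow_pos hp.pos k) hε⟩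
  have he : φ e = 1 := reduction_root_eq_one hp (k := k) (by
    rw [← map_pow, show e ^ p ^ k = 1 from Subtype.ext hε, map_one])
  have h1 : (n : integralClosure ℤ ℂ) = (1 - e) * ⟨ω, hω⟩ := Subtype.ext (by simpa using h)
  have h2 := congrArg φ h1
  rw [map_intCast, map_mul, map_sub, map_one, he, sub_self, zero_mul] at h2
  exact (CharP.intCast_eq_zero_iff F p n).1 h2

/-- A sum of `p`-power roots of unity that is an integer is congruent to the number of terms. -/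
theorem prime_dvd_card_sub_of_sum {p : ℕ} (hp : p.Prime) {k : ℕ} {s : Multiset ℂ}
    (hs : ∀ z ∈ s, z ^ p ^ k = 1) {n : ℤ} (h : s.sum = n) :
    (p : ℤ) ∣ (Multiset.card s : ℤ) - n := by
  obtain ⟨F, _, _, ⟨φ⟩⟩ := exists_reduction p hp
  have key : ∀ s : Multiset ℂ, (∀ z ∈ s, z ^ p ^ k = 1) →
      ∃ x : integralClosure ℤ ℂ, (x : ℂ) = s.sum ∧ φ x = Multiset.card s := by
    intro s hs
    induction s using Multiset.induction_on with
    | empty => exact ⟨0, by simp, by simp⟩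
    | cons a s ih =>
      obtain ⟨x, hx, hx'⟩ := ih fun z hz => hs z (Multiset.mem_cons_of_mem hz)
      have ha := hs a (Multiset.mem_cons_self a s)
      let e : integralClosure ℤ ℂ := ⟨a, isIntegral_of_pow_eq_one (pow_pos hp.pos k) ha⟩
      have he : φ e = 1 := reduction_root_eq_one hp (k := k) (by
        rw [← map_pow, show e ^ p ^ k = 1 from Subtype.ext ha, map_one])
      exact ⟨e + x, by simp [e, hx], by simp [he, hx', add_comm]⟩
  obtain ⟨x, hx, hx'⟩ := key s hs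
  have : x = n := Subtype.ext (by simp [hx, h])
  rw [this, map_intCast] at hx'
  rw [← CharP.intCast_eq_zero_iff F p]
  simp [hx']

theorem exists_ringEquiv_extend {F : Type} [Field F] [Algebra F ℂ] (K : IntermediateField F ℂ)
    (τ : K ≃+* K) : ∃ σ : ℂ ≃+* ℂ, ∀ x : K, σ x = τ x := by
  obtain ⟨ι, v, hv⟩ := exists_isTranscendenceBasis' K ℂ
  let R := Algebra.adjoin K (Set.range v)
  let e : R ≃+* R := hv.1.aevalEquiv.symm.toRingEquiv.trans
    ((MvPolynomial.mapEquiv ι τ).trans hv.1.aevalEquiv.toRingEquiv)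
  have := IsAlgClosed.isAlgClosure_of_transcendence_basis v hv
  refine ⟨IsAlgClosure.equivOfEquiv ℂ ℂ e, fun x => ?_⟩
  have h1 : (x : ℂ) = algebraMap R ℂ (algebraMap _ R x) := rfl
  rw [h1, IsAlgClosure.equivOfEquiv_algebraMap]
  have h2 : hv.1.aevalEquiv.symm (algebraMap _ R x) = MvPolynomial.C x :=
    hv.1.aevalEquiv.symm.commutes x
  have h3 : e (algebraMap _ R x) = algebraMap _ R (τ x) := by
    change hv.1.aevalEquiv (MvPolynomial.mapEquiv ι τ (hv.1.aevalEquiv.symm _)) = _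
    rw [h2, MvPolynomial.mapEquiv_apply, MvPolynomial.map_C]
    exact hv.1.aevalEquiv.commutes _
  rw [h3]; rfl

theorem exists_ringEquiv_of_minpoly_eq {F : Type} [Field F] [Algebra F ℂ] {x y : ℂ}
    (hx : IsIntegral F x) (hy : IsIntegral F y)
    (h : minpoly F x = minpoly F y) : ∃ σ : ℂ ≃+* ℂ, σ x = y := by
  let x' : algebraicClosure F ℂ := ⟨x, mem_algebraicClosure_iff'.2 hx⟩
  let y' : algebraicClosure F ℂ := ⟨y, mem_algebraicClosure_iff'.2 hy⟩
  have h1 : IsConjRoot F y' x' := by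
    rw [IsConjRoot, IntermediateField.minpoly_eq, IntermediateField.minpoly_eq]
    exact h.symm
  obtain ⟨τ, hτ⟩ := h1.exists_algEquiv
  obtain ⟨σ, hσ⟩ := exists_ringEquiv_extend _ τ.toRingEquiv
  exact ⟨σ, (hσ x').trans (congrArg Subtype.val hτ)⟩

/-- For `k` coprime to `n` some automorphism of `ℂ` raises the `n`-th roots of unity to the
`k`-th power. -/
theorem exists_ringEquiv_pow {n k : ℕ} (hn : 0 < n) (hk : Nat.Coprime k n) :
    ∃ σ : ℂ ≃+* ℂ, ∀ z : ℂ, z ^ n = 1 → σ z = z ^ k := by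
  have : NeZero n := ⟨hn.ne'⟩
  have hζ := Complex.isPrimitiveRoot_exp n hn.ne'
  have hζ' := hζ.pow_of_coprime k hk
  obtain ⟨σ, hσ⟩ := exists_ringEquiv_of_minpoly_eq (F := ℚ) (hζ.isIntegral hn).tower_top
    (hζ'.isIntegral hn).tower_top (by
      rw [← Polynomial.cyclotomic_eq_minpoly_rat hζ hn,
        ← Polynomial.cyclotomic_eq_minpoly_rat hζ' hn])
  refine ⟨σ, fun z hz => ?_⟩
  obtain ⟨i, -, rfl⟩ := hζ.eq_pow_of_pow_eq_one hz
  rw [map_pow, hσ, ← pow_mul, ← pow_mul, mul_comm k i]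

theorem exists_pow_of_ringHom (σ : ℂ →+* ℂ) {n : ℕ} (hn : 0 < n) :
    ∃ k : ℕ, Nat.Coprime k n ∧ ∀ z : ℂ, z ^ n = 1 → σ z = z ^ k := by
  have : NeZero n := ⟨hn.ne'⟩
  have hζ := Complex.isPrimitiveRoot_exp n hn.ne'
  have hζ' := hζ.map_of_injective σ.injective
  obtain ⟨k, -, hk⟩ := hζ.eq_pow_of_pow_eq_one hζ'.pow_eq_one
  refine ⟨k, (hζ.pow_iff_coprime hn k).1 (hk ▸ hζ'), fun z hz => ?_⟩
  obtain ⟨i, -, rfl⟩ := hζ.eq_pow_of_pow_eq_one hz
  rw [map_pow, ← hk, ← pow_mul, ← pow_mul, mul_comm k i]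

/-- An algebraic integer fixed by all automorphisms of `ℂ` is an integer. -/
theorem exists_int_of_forall_ringEquiv {x : ℂ} (hx : IsIntegral ℤ x)
    (h : ∀ σ : ℂ ≃+* ℂ, σ x = x) : ∃ n : ℤ, x = n := by
  refine exists_int_of_isIntegral_of_rat hx ?_
  have hx' : IsIntegral ℚ x := hx.tower_top
  by_contra hcon
  have h1 : x ∉ (⊥ : Subalgebra ℚ ℂ) := by
    rw [Algebra.mem_bot]; rintro ⟨q, hq⟩; exact hcon ⟨q, hq.symm⟩
  have hsep : IsSeparable ℚ x := (minpoly.irreducible hx').separable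
  obtain ⟨y, hy, hy'⟩ := (notMem_iff_exists_ne_and_isConjRoot hsep
    (IsAlgClosed.splits _)).1 h1
  obtain ⟨σ, hσ⟩ := exists_ringEquiv_of_minpoly_eq hx' (hy'.isIntegral hx') hy'
  exact hy ((h σ).symm.trans hσ)

end Numbers

section Values

variable {G : Type u} [Group G] [Finite G]

theorem _root_.Cfsg.IsCharacter.isIntegral {χ : G → ℂ} (hχ : IsCharacter G χ) (g : G) :
    IsIntegral ℤ (χ g) := by
  obtain ⟨s, hs, hs'⟩ := hχ.exists_eigenvalues g
  have h1 := hs' 1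
  simp only [zpow_one, Multiset.map_id'] at h1
  rw [h1]
  exact IsIntegral.multiset_sum fun z hz => isIntegral_of_pow_eq_one (orderOf_pos g) (hs z hz)

theorem _root_.Cfsg.IsGeneralizedCharacter.isIntegral {χ : G → ℂ}
    (hχ : IsGeneralizedCharacter G χ) (g : G) : IsIntegral ℤ (χ g) := by
  obtain ⟨φ, ψ, hφ, hψ, rfl⟩ := hχ
  exact (hφ.isIntegral g).sub (hψ.isIntegral g)

/-- For a `p`-element `g` with `χ g` an integer, `χ g ≡ χ 1` modulo `p`. -/
theorem _root_.Cfsg.IsCharacter.prime_dvd_degree_sub {χ : G → ℂ} (hχ : IsCharacter G χ) {p : ℕ}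
    (hp : p.Prime) {g : G} {k : ℕ} (hg : g ^ p ^ k = 1) {d n : ℤ} (hd : χ 1 = d) (hn : χ g = n) :
    (p : ℤ) ∣ d - n := by
  obtain ⟨s, hs, hs'⟩ := hχ.exists_eigenvalues g
  have h1 := hs' 1
  have h0 := hs' 0
  simp only [zpow_one, zpow_zero, Multiset.map_const', Multiset.sum_replicate, nsmul_eq_mul,
    mul_one, Multiset.map_id'] at h1 h0
  have h2 : d = Multiset.card s := by rw [hd] at h0; exact_mod_cast h0
  rw [h2]
  refine prime_dvd_card_sub_of_sum hp (k := k) (fun z hz => ?_) (h1 ▸ hn)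
  obtain ⟨c, hc⟩ := orderOf_dvd_of_pow_eq_one hg
  rw [hc, pow_mul, hs z hz, one_pow]

/-- Central characters take algebraic integer values. -/
theorem _root_.Cfsg.IsIrrCharacter.isIntegral_central [Fintype G] {χ : G → ℂ}
    (hχ : IsIrrCharacter G χ) {f : G → ℂ} (hf : IsClassFunction G f)
    (hf' : ∀ g, IsIntegral ℤ (f g)) : IsIntegral ℤ ((∑ g : G, f g * χ g) / χ 1) := by
  let R := integralClosure ℤ ℂ
  let N : Submodule R (G → ℂ) := Submodule.span R (Set.range fun g : G => fun x => χ (x * g))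
  have hN : N ≠ ⊥ := by
    intro h
    have : (fun x => χ (x * 1)) ∈ N := Submodule.subset_span ⟨1, rfl⟩
    rw [h, Submodule.mem_bot] at this
    exact hχ.apply_one_ne_zero (by simpa using congrFun this 1)
  have hfg : N.FG := Submodule.fg_span (Set.finite_range _)
  refine isIntegral_trans (A := R) _ (isIntegral_of_smul_mem_submodule N hN hfg _ ?_)
  intro n hn
  refine Submodule.span_induction (p := fun n _ => ((∑ g : G, f g * χ g) / χ 1) • n ∈ N)
    ?_ ?_ ?_ ?_ hn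
  · rintro _ ⟨g, rfl⟩
    have : (((∑ g : G, f g * χ g) / χ 1) • fun x => χ (x * g)) =
        ∑ y : G, (⟨f y, hf' y⟩ : R) • fun x => χ (x * (g * y)) := by
      funext x
      have h1 := hχ.sum_class_mul hf (x * g)
      simp only [Pi.smul_apply, smul_eq_mul, Finset.sum_apply]
      rw [div_mul_eq_mul_div, ← h1, mul_div_cancel_left₀ _ hχ.apply_one_ne_zero]
      refine Finset.sum_congr rfl fun y _ => ?_
      rw [hχ.isClassFunction.mul_comm y, mul_assoc]; rfl
    rw [this]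
    exact Submodule.sum_mem _ fun y _ => Submodule.smul_mem _ _ (Submodule.subset_span ⟨_, rfl⟩)
  · simp
  · intro a b _ _ ha hb; rw [smul_add]; exact N.add_mem ha hb
  · intro r a _ ha; rw [smul_comm]; exact N.smul_mem r ha

/-- The degree of an irreducible character divides the order of the group. -/
theorem _root_.Cfsg.IsIrrCharacter.degree_dvd_card {χ : G → ℂ} (hχ : IsIrrCharacter G χ) {d : ℕ}
    (hd : χ 1 = d) : d ∣ Nat.card G := by
  have := Fintype.ofFinite G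
  have h1 := hχ.isIntegral_central hχ.conjFun.isClassFunction hχ.conjFun.isCharacter.isIntegral
  have h2 : ∑ g : G, conjFun χ g * χ g = Nat.card G := by
    have := card_mul_ci χ χ
    rw [hχ.ci_self, mul_one] at this
    rw [this]; exact Finset.sum_congr rfl fun g _ => mul_comm _ _
  rw [h2, hd] at h1
  have hd0 : (d : ℂ) ≠ 0 := hd ▸ hχ.apply_one_ne_zero
  have := int_dvd_of_isIntegral (a := Nat.card G) (b := d) h1 (by exact_mod_cast hd0)
    (by push_cast; field_simp)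
  exact_mod_cast this

theorem _root_.Cfsg.IsCharacter.map_ringHom {χ : G → ℂ} (hχ : IsCharacter G χ) (σ : ℂ →+* ℂ) :
    IsCharacter G (fun g => σ (χ g)) := by
  obtain ⟨n, ρ, rfl⟩ := hχ
  let ρ' : Representation ℂ G (Fin n → ℂ) :=
    (Matrix.toLinAlgEquiv' (R := ℂ) (n := Fin n)).toMonoidHom.comp
      ((σ.mapMatrix (m := Fin n)).toMonoidHom.comp
        ((LinearMap.toMatrixAlgEquiv' (R := ℂ) (n := Fin n)).toMonoidHom.comp ρ))
  refine ⟨n, ρ', ?_⟩
  funext g
  have h1 : ρ' g = Matrix.toLin' ((LinearMap.toMatrix' (ρ g)).map σ) := rfl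
  rw [Representation.character, h1, Matrix.trace_toLin'_eq, ← AddMonoidHom.map_trace σ,
    Representation.character, LinearMap.trace_eq_matrix_trace ℂ (Pi.basisFun ℂ (Fin n))]
  rfl

theorem _root_.Cfsg.IsGeneralizedCharacter.map_ringHom {χ : G → ℂ}
    (hχ : IsGeneralizedCharacter G χ) (σ : ℂ →+* ℂ) :
    IsGeneralizedCharacter G (fun g => σ (χ g)) := by
  obtain ⟨φ, ψ, hφ, hψ, rfl⟩ := hχ
  exact ⟨_, _, hφ.map_ringHom σ, hψ.map_ringHom σ, by funext g; simp⟩

theorem ci_map_ringHom [Fintype G] (σ : ℂ →+* ℂ) (φ : G → ℂ) {ψ : G → ℂ}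
    (hψ : IsGeneralizedCharacter G ψ) :
    ⟪(fun g => σ (φ g)), fun g => σ (ψ g)⟫ = σ ⟪φ, ψ⟫ := by
  simp only [ci_def, map_mul, map_inv₀, map_natCast, map_sum, ← hψ.apply_inv]
  simp only [← (hψ.map_ringHom σ).apply_inv]

theorem _root_.Cfsg.IsIrrCharacter.map_ringHom {χ : G → ℂ} (hχ : IsIrrCharacter G χ)
    (σ : ℂ →+* ℂ) : IsIrrCharacter G (fun g => σ (χ g)) := by
  have := Fintype.ofFinite G
  exact (hχ.isCharacter.map_ringHom σ).isIrr_of_ci_self
    (by rw [ci_map_ringHom σ χ hχ.virt, hχ.ci_self, map_one])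

theorem IsSIrr.map_ringHom {χ : G → ℂ} (hχ : IsSIrr G χ) (σ : ℂ →+* ℂ) :
    IsSIrr G (fun g => σ (χ g)) := by
  rcases hχ with h | h
  · exact Or.inl (h.map_ringHom σ)
  · right
    convert h.map_ringHom σ using 1
    funext g; simp

theorem _root_.Cfsg.IsCharacter.ringHom_apply {χ : G → ℂ} (hχ : IsCharacter G χ) (σ : ℂ →+* ℂ)
    {g : G} {k : ℕ} (h : ∀ z : ℂ, z ^ orderOf g = 1 → σ z = z ^ k) : σ (χ g) = χ (g ^ k) := by
  obtain ⟨s, hs, hs'⟩ := hχ.exists_eigenvalues g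
  have h1 := hs' 1
  have h2 := hs' k
  simp only [zpow_one, Multiset.map_id', zpow_natCast] at h1 h2
  rw [h1, h2, map_multiset_sum]
  congr 1
  exact Multiset.map_congr rfl fun z hz => h z (hs z hz)

theorem _root_.Cfsg.IsGeneralizedCharacter.ringHom_apply {χ : G → ℂ}
    (hχ : IsGeneralizedCharacter G χ) (σ : ℂ →+* ℂ) {g : G} {k : ℕ}
    (h : ∀ z : ℂ, z ^ orderOf g = 1 → σ z = z ^ k) : σ (χ g) = χ (g ^ k) := by
  obtain ⟨φ, ψ, hφ, hψ, rfl⟩ := hχ
  simp [hφ.ringHom_apply σ h, hψ.ringHom_apply σ h]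

/-- An automorphism of `ℂ` acting as the `k`-th power on `a`-th roots of unity and trivially on
`b`-th roots of unity. -/
theorem exists_ringEquiv_pow_coprime {a b k : ℕ} (ha : 0 < a) (hb : 0 < b) (hab : Nat.Coprime a b)
    (hk : Nat.Coprime k a) : ∃ σ : ℂ ≃+* ℂ, (∀ z : ℂ, z ^ a = 1 → σ z = z ^ k) ∧
      ∀ z : ℂ, z ^ b = 1 → σ z = z := by
  obtain ⟨m, hm1, hm2⟩ := Nat.chineseRemainder hab k 1
  have hm : Nat.Coprime m (a * b) := by
    refine Nat.Coprime.mul_right ?_ ?_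
    · rw [Nat.Coprime, hm1.gcd_eq]; exact hk
    · rw [Nat.Coprime, hm2.gcd_eq]; simp
  obtain ⟨σ, hσ⟩ := exists_ringEquiv_pow (Nat.mul_pos ha hb) hm
  refine ⟨σ, fun z hz => ?_, fun z hz => ?_⟩
  · rw [hσ z (by rw [pow_mul, hz, one_pow]), pow_eq_pow_mod m hz, hm1, ← pow_eq_pow_mod k hz]
  · rw [hσ z (by rw [mul_comm, pow_mul, hz, one_pow]), pow_eq_pow_mod m hz, hm2,
      ← pow_eq_pow_mod 1 hz, pow_one]

/-- Congruence of the values at `x * y` and `y` for commuting `x`, `y`. -/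
theorem _root_.Cfsg.IsGeneralizedCharacter.exists_sub_eq_one_sub_mul {χ : G → ℂ}
    (hχ : IsGeneralizedCharacter G χ) {x y : G} (hxy : x * y = y * x) {ε : ℂ} {n : ℕ}
    (hε : IsPrimitiveRoot ε n) (hn : 0 < n) (hx : x ^ n = 1) :
    ∃ ω : ℂ, IsIntegral ℤ ω ∧ χ (x * y) - χ y = (1 - ε) * ω := by
  have : NeZero n := ⟨hn.ne'⟩
  let A := Subgroup.closure ({x, y} : Set G)
  have hA : IsMulCommutative A := Subgroup.isMulCommutative_closure (by
    rintro a (rfl | rfl) b (rfl | rfl) <;> first | rfl | exact hxy | exact hxy.symm)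
  let x' : A := ⟨x, Subgroup.subset_closure (by simp)⟩
  let y' : A := ⟨y, Subgroup.subset_closure (by simp)⟩
  have key : ∀ ψ : A → ℂ, IsCharacter A ψ →
      ∃ ω : ℂ, IsIntegral ℤ ω ∧ ψ (x' * y') - ψ y' = (1 - ε) * ω := by
    intro ψ hψ
    refine hψ.induction_on
      (P := fun ψ => ∃ ω : ℂ, IsIntegral ℤ ω ∧ ψ (x' * y') - ψ y' = (1 - ε) * ω) ?_ ?_ ?_
    · exact ⟨0, isIntegral_zero, by simp⟩
    · intro φ hφ
      obtain ⟨f, rfl⟩ := hφ.exists_hom_of_comm
      have h1 : (f x' : ℂ) ^ n = 1 := by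
        rw [← Units.val_pow_eq_pow_val, ← map_pow, show x' ^ n = 1 from Subtype.ext hx]; simp
      obtain ⟨i, -, hi⟩ := hε.eq_pow_of_pow_eq_one h1
      refine ⟨-(∑ j ∈ Finset.range i, ε ^ j) * f y', ?_, ?_⟩
      · exact (IsIntegral.sum _ fun j _ => (hε.isIntegral hn).pow j).neg.mul
          (hφ.isCharacter.isIntegral y')
      · simp only [map_mul, Units.val_mul, ← hi]
        have := mul_neg_geom_sum ε i
        linear_combination (f y' : ℂ) * this
    · rintro a b - - ⟨ω, h1, h2⟩ ⟨ω', h1', h2'⟩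
      exact ⟨ω + ω', h1.add h1', by simp only [Pi.add_apply]; linear_combination h2 + h2'⟩
  obtain ⟨φ, ψ, hφ, hψ, rfl⟩ := hχ
  obtain ⟨ω, h1, h2⟩ := key _ (hφ.restrict A)
  obtain ⟨ω', h1', h2'⟩ := key _ (hψ.restrict A)
  refine ⟨ω - ω', h1.sub h1', ?_⟩
  simp only [Pi.sub_apply]
  change φ (x * y) - φ y = _ at h2
  change ψ (x * y) - ψ y = _ at h2'
  linear_combination h2 - h2'

end Values

end Cfsg.Agent.Char
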