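import Cfsg.Agent.Char.Columns
import Cfsg.Agent.Char.Integrality
import Cfsg.Agent.Cl.SimpleBasic

/-! Burnside's `p^a q^b` theorem; a minimal counterexample principle for solvability. -/

set_option autoImplicit false

namespace Cfsg.Agent.Char

open Cfsg Subgroup
open scoped ComplexConjugate

universe u

/-- Minimal counterexample principle for solvability. -/
theorem isSolvable_of_min (P : ∀ (H : Type u) [Group H], Prop)
    (hsub : ∀ (H : Type u) [Group H] [Finite H] (K : Subgroup H), P H → P K)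
    (hquo : ∀ (H : Type u) [Group H] [Finite H] (N : Subgroup H) [N.Normal], P H → P (H ⧸ N))
    (hs : ∀ (H : Type u) [Group H] [Finite H] [IsSimpleGroup H], P H →
      (∀ K : Subgroup H, K ≠ ⊤ → Group.IsSolvable K) → IsMulCommutative H)
    (G : Type u) [Group G] [Finite G] (hG : P G) : Group.IsSolvable G := by
  induction hk : Nat.card G using Nat.strong_induction_on generalizing G with
  | _ k ih =>
  subst hk
  have hsol : ∀ H : Subgroup G, H ≠ ⊤ → Group.IsSolvable H := fun H hH =>
    ih _ (lt_of_le_of_ne (Nat.le_of_dvd Nat.card_pos (card_subgroup_dvd_card H))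
      fun e => hH (eq_top_of_card_eq H e)) H (hsub G H hG) rfl
  rcases subsingleton_or_nontrivial G with h | h
  · infer_instance
  by_cases hsim : IsSimpleGroup G
  · exact Group.isSolvable_of_comm (hs G hG hsol).is_comm.comm
  obtain ⟨N, hN, h1, h2⟩ : ∃ N : Subgroup G, N.Normal ∧ N ≠ ⊥ ∧ N ≠ ⊤ := by
    by_contra! H
    exact hsim ⟨fun N hN => or_iff_not_imp_left.mpr (H N hN)⟩
  have e := Subgroup.card_eq_card_quotient_mul_card_subgroup N
  have p1 : 1 < Nat.card N := (Subgroup.one_lt_card_iff_ne_bot N).mpr h1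
  have p2 : 0 < Nat.card (G ⧸ N) := Nat.card_pos
  have := hsol N h2
  have := ih _ (by nlinarith) (G ⧸ N) (hquo G N hG) rfl
  exact Group.isSolvable_of_ker_le_range N.subtype (QuotientGroup.mk' N) (by simp)

variable {G : Type u} [Group G] [Finite G]

theorem _root_.Cfsg.IsCharacter.eq_zero_of_isIntegral_div {χ : G → ℂ} (hχ : IsCharacter G χ)
    {d : ℕ} (hd : χ 1 = d) (hd0 : 0 < d) {g : G} (hi : IsIntegral ℤ (χ g / d))
    (hlt : ‖χ g‖ < d) : χ g = 0 := by
  classical
  set n := orderOf g with hn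
  have hn0 : 0 < n := orderOf_pos g
  haveI : NeZero n := ⟨hn0.ne'⟩
  have hd' : (0 : ℝ) < d := by exact_mod_cast hd0
  let F : (ZMod n)ˣ → ℂ := fun u => χ (g ^ (u : ZMod n).val) / d
  have hσ : ∀ u : (ZMod n)ˣ, ∃ σ : ℂ ≃+* ℂ, σ (χ g / d) = F u := fun u => by
    obtain ⟨σ, hσ⟩ := exists_ringEquiv_pow hn0 (ZMod.val_coe_unit_coprime u)
    refine ⟨σ, ?_⟩
    rw [map_div₀, map_natCast]
    exact congrArg (· / (d : ℂ)) (hχ.ringHom_apply (σ : ℂ →+* ℂ) hσ)
  have hint : IsIntegral ℤ (∏ u, F u) := IsIntegral.prod _ fun u _ => by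
    obtain ⟨σ, hσ⟩ := hσ u
    rw [← hσ]
    exact hi.map (σ : ℂ →+* ℂ).toIntAlgHom
  obtain ⟨m, hm⟩ := exists_int_of_forall_ringEquiv hint fun σ => by
    obtain ⟨k, hk, hk'⟩ := exists_pow_of_ringHom (σ : ℂ →+* ℂ) hn0
    rw [map_prod]
    refine Fintype.prod_equiv (Equiv.mulRight (ZMod.unitOfCoprime k hk)) _ _ fun u => ?_
    simp only [F, Equiv.coe_mulRight]
    rw [map_div₀, map_natCast]
    congr 1
    have := hχ.ringHom_apply (σ : ℂ →+* ℂ) (g := g ^ (u : ZMod n).val) (k := k) fun z hz =>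
      hk' z (by
        obtain ⟨c, hc⟩ := orderOf_pow_dvd (x := g) (u : ZMod n).val
        rw [hn, hc, pow_mul, hz, one_pow])
    refine this.trans ?_
    rw [← pow_mul]
    congr 1
    rw [pow_eq_pow_iff_modEq, ← hn, ← ZMod.natCast_eq_natCast_iff]
    simp
  have hle : ∀ u, ‖F u‖ ≤ 1 := fun u => by
    simp only [F, norm_div, Complex.norm_natCast]
    rw [div_le_one hd']
    simpa [hd] using hχ.norm_le (g ^ (u : ZMod n).val)
  have h1 : F 1 = χ g / d := by
    simp only [F, Units.val_one]
    congr 2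
    conv_rhs => rw [← pow_one g]
    rw [pow_eq_pow_iff_modEq, ← hn, ← ZMod.natCast_eq_natCast_iff]
    simp
  have hlt' : ‖∏ u, F u‖ < 1 := by
    rw [norm_prod, ← Finset.mul_prod_erase _ _ (Finset.mem_univ 1), h1]
    have h2 : ‖χ g / d‖ < 1 := by
      rw [norm_div, Complex.norm_natCast, div_lt_one hd']; exact hlt
    have h3 : ∏ u ∈ Finset.univ.erase 1, ‖F u‖ ≤ 1 :=
      Finset.prod_le_one (fun _ _ => norm_nonneg _) fun u _ => hle u
    exact lt_of_le_of_lt (mul_le_of_le_one_right (norm_nonneg _) h3) h2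
  rw [hm, Complex.norm_intCast] at hlt'
  have hm0 : m = 0 := by
    have : |m| < 1 := by exact_mod_cast hlt'
    exact Int.abs_lt_one_iff.1 this
  rw [hm0, Int.cast_zero, Finset.prod_eq_zero_iff] at hm
  obtain ⟨u, -, hu⟩ := hm
  obtain ⟨σ, hσ⟩ := hσ u
  rw [hu, map_eq_zero_iff _ σ.injective, div_eq_zero_iff] at hσ
  exact hσ.resolve_right (by exact_mod_cast hd0.ne')

theorem _root_.Cfsg.IsIrrCharacter.isIntegral_index_mul_div {χ : G → ℂ}
    (hχ : IsIrrCharacter G χ) (g : G) :
    IsIntegral ℤ (((centralizer ({g} : Set G)).index : ℂ) * χ g / χ 1) := by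
  classical
  have := Fintype.ofFinite G
  have h := hχ.isIntegral_central (f := fun x => if IsConj g x then 1 else 0)
    (fun x y => by
      have : IsConj g (y * x * y⁻¹) ↔ IsConj g x :=
        ⟨fun h => h.trans (isConj_iff.2 ⟨y, rfl⟩).symm, fun h => h.trans (isConj_iff.2 ⟨y, rfl⟩)⟩
      simp only [this])
    (fun x => by split_ifs; exacts [isIntegral_one, isIntegral_zero])
  have e : ∑ x : G, (if IsConj g x then (1 : ℂ) else 0) * χ x =
      ((centralizer ({g} : Set G)).index : ℂ) * χ g := by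
    have h1 : ∀ x : G, (if IsConj g x then (1 : ℂ) else 0) * χ x =
        (if IsConj g x then (1 : ℂ) else 0) * χ g := fun x => by
      split_ifs with h
      · rw [hχ.isClassFunction.eq_of_isConj h]
      · simp
    simp only [h1]
    rw [← Finset.sum_mul, ← natCard_subtype_eq_sum_ite]
    congr 2
    have h2 : (centralizer ({g} : Set G)).index =
        (MulAction.stabilizer (ConjAct G) g).index := by
      rw [← (MulAction.stabilizer (ConjAct G) g).index_comap_of_surjective
        (f := ConjAct.toConjAct.toMonoidHom) ConjAct.toConjAct.surjective]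
      congr 1
      ext x
      simp [mem_centralizer_singleton_iff, ConjAct.smul_def, mul_inv_eq_iff_eq_mul]
    rw [h2, MulAction.index_stabilizer, ← Nat.card_coe_set_eq]
    refine Nat.card_congr (Equiv.subtypeEquivRight fun x => ?_)
    rw [ConjAct.mem_orbit_conjAct, isConj_comm]
  rwa [e] at h

/-- Burnside: no non-trivial class of a non-abelian simple group has prime power size. -/
theorem not_index_centralizer_eq_pow [IsSimpleGroup G] (hG : ¬ IsMulCommutative G) {g : G}
    (hg : g ≠ 1) {q b : ℕ} (hq : q.Prime) (h : (centralizer ({g} : Set G)).index = q ^ b) :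
    False := by
  classical
  have := Fintype.ofFinite G
  have key : ∀ χ ∈ Irr G, χ ≠ (fun _ => 1) → IsIntegral ℤ (χ 1 * χ g / q) := by
    intro χ hχ hne
    have hχ := mem_Irr.1 hχ
    obtain ⟨d, hd0, hd⟩ := hχ.exists_degree
    have hq0 : (q : ℂ) ≠ 0 := by exact_mod_cast hq.ne_zero
    by_cases hqd : q ∣ d
    · obtain ⟨c, rfl⟩ := hqd
      have : χ 1 * χ g / q = c * χ g := by rw [hd]; push_cast; field_simp
      rw [this]
      exact (isIntegral_natCast c).mul (hχ.isCharacter.isIntegral g)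
    suffices χ g = 0 by rw [this, mul_zero, zero_div]; exact isIntegral_zero
    have hd0' : (d : ℂ) ≠ 0 := by exact_mod_cast hd0.ne'
    have hc : Nat.Coprime (q ^ b) d := ((Nat.Prime.coprime_iff_not_dvd hq).2 hqd).pow_left b
    refine hχ.isCharacter.eq_zero_of_isIntegral_div hd hd0 ?_ ?_
    · have h1 := hχ.isIntegral_index_mul_div g
      rw [h, hd] at h1
      have h2 := Nat.gcd_eq_gcd_ab (q ^ b) d
      rw [hc] at h2
      have h3 : (1 : ℂ) = (q ^ b : ℕ) * (Nat.gcdA (q ^ b) d : ℂ) + d * (Nat.gcdB (q ^ b) d : ℂ) := by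
        exact_mod_cast h2
      have h4 : χ g / d = (Nat.gcdA (q ^ b) d : ℂ) * ((q ^ b : ℕ) * χ g / d) +
          (Nat.gcdB (q ^ b) d : ℂ) * χ g := by
        field_simp
        linear_combination χ g * h3
      rw [h4]
      exact ((isIntegral_intCast _).mul h1).add
        ((isIntegral_intCast _).mul (hχ.isCharacter.isIntegral g))
    · have h1 := hχ.isCharacter.norm_le g
      rw [hd, Complex.norm_natCast] at h1
      refine lt_of_le_of_ne h1 fun e => ?_
      have h2 := hχ.isCharacter.mul hχ.isCharacter.conjFun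
      have h3 : ∀ x, (χ * conjFun χ) x = (‖χ x‖ ^ 2 : ℝ) := fun x => by
        change χ x * conj (χ x) = _
        rw [Complex.mul_conj, Complex.normSq_eq_norm_sq]
      have h4 : g ∈ chKer (χ * conjFun χ) := h2.mem_chKer_iff.2 (by
        rw [h3, h3, e, hd, Complex.norm_natCast])
      have h5 : chKer (χ * conjFun χ) = ⊤ :=
        ((chKer_normal h2.isClassFunction).eq_bot_or_eq_top).resolve_left fun e =>
          hg (by rwa [e, mem_bot] at h4)
      have h6 : ∀ x, χ x * conj (χ x) = d ^ 2 := fun x => by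
        have := apply_eq_of_mem_chKer (h5 ▸ mem_top x)
        rw [h3 1, hd, Complex.norm_natCast] at this
        exact this.trans (by push_cast; rfl)
      have h7 := hχ.ci_self
      simp only [ci_def, h6, Finset.sum_const, Finset.card_univ, ← Nat.card_eq_fintype_card,
        nsmul_eq_mul] at h7
      rw [← mul_assoc, inv_mul_cancel₀ (card_ne_zero_complex G), one_mul] at h7
      have h8 : d = 1 := by
        have : d ^ 2 = 1 := by exact_mod_cast h7
        simpa using this
      rw [h8, Nat.cast_one] at hd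
      obtain ⟨f, hf⟩ := hχ.isCharacter.exists_hom_of_degree_one hd
      apply hne
      funext x
      simp only [hf, Cl.hom_eq_one_of_comm hG f x, Units.val_one]
  have h1 := sum_irr_degree_mul g
  rw [if_neg hg, ← Finset.add_sum_erase _ _ (mem_Irr.2 isIrrCharacter_one), one_mul] at h1
  have h2 : IsIntegral ℤ (∑ χ ∈ (Irr G).erase (fun _ => 1), χ 1 * χ g / q) :=
    IsIntegral.sum _ fun χ hχ => key χ (Finset.mem_of_mem_erase hχ) (Finset.ne_of_mem_erase hχ)
  rw [← Finset.sum_div] at h2
  have hq0 : (q : ℂ) ≠ 0 := by exact_mod_cast hq.ne_zero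
  have h3 := int_dvd_of_isIntegral (a := -1) (b := q) h2 (by exact_mod_cast hq.ne_zero) (by
    push_cast
    field_simp
    linear_combination -h1)
  have h4 : q ∣ 1 := by
    have := Int.dvd_neg.1 h3
    exact_mod_cast this
  exact hq.one_lt.ne' (Nat.dvd_one.1 h4)

/-- Burnside's `p^a q^b` theorem. -/
theorem burnside_paqb {p q : ℕ} (hp : p.Prime) (hq : q.Prime)
    (h : ∀ r : ℕ, r.Prime → r ∣ Nat.card G → r = p ∨ r = q) : Group.IsSolvable G := by
  refine isSolvable_of_min (fun H _ => ∀ r : ℕ, r.Prime → r ∣ Nat.card H → r = p ∨ r = q)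
    (fun H _ _ K hH r hr hd => hH r hr (hd.trans (card_subgroup_dvd_card K)))
    (fun H _ _ N _ hH r hr hd => hH r hr (hd.trans (card_quotient_dvd_card N))) ?_ G h
  intro H _ _ _ hH _
  by_contra hc
  haveI := Fact.mk hp
  haveI := Fact.mk hq
  obtain ⟨P⟩ : Nonempty (Sylow p H) := inferInstance
  have hi : ∃ b, (P : Subgroup H).index = q ^ b :=
    ⟨_, Nat.eq_prime_pow_of_unique_prime_dvd (index_ne_zero_of_finite) fun {r} hr hd =>
      (hH r hr (hd.trans (index_dvd_card _))).resolve_left fun e => P.not_dvd_index (e ▸ hd)⟩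
  obtain ⟨b, hb⟩ := hi
  by_cases hP : (P : Subgroup H) = ⊥
  · rw [hP, index_bot] at hb
    exact Cl.not_isPGroup_of_simple hc (IsPGroup.of_card hb)
  haveI := (Subgroup.nontrivial_iff_ne_bot _).2 hP
  haveI := P.2.center_nontrivial
  obtain ⟨z, hz⟩ := exists_ne (1 : center (P : Subgroup H))
  have hle : (P : Subgroup H) ≤ centralizer ({z.1.1} : Set H) := fun x hx =>
    mem_centralizer_singleton_iff.2 (congrArg Subtype.val (mem_center_iff.1 z.2 ⟨x, hx⟩))
  have hd := index_dvd_of_le hle
  rw [hb] at hd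
  obtain ⟨c, -, hc'⟩ := (Nat.dvd_prime_pow hq).1 hd
  exact not_index_centralizer_eq_pow hc (fun e => hz (Subtype.ext (Subtype.ext e))) hq hc'

theorem exists_prime_five_le_of_not_solvable (h : ¬ Group.IsSolvable G) :
    ∃ p : ℕ, p.Prime ∧ 5 ≤ p ∧ p ∣ Nat.card G := by
  by_contra! H
  refine h (burnside_paqb Nat.prime_two Nat.prime_three fun r hr hd => ?_)
  have h1 : r < 5 := lt_of_not_ge fun h5 => H r hr h5 hd
  have h2 := hr.two_le
  interval_cases r
  · exact Or.inl rfl
  · exact Or.inr rfl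
  · exact absurd hr (by norm_num)

end Cfsg.Agent.Char
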