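import Cfsg.Agent.Char.Inner

/-!
# Characters: closure properties, decomposition in irreducibles, orthogonality, completeness
-/

set_option autoImplicit false
set_option linter.unusedSectionVars false

namespace Cfsg.Agent.Char

open Cfsg
open scoped ComplexConjugate

universe u v

section General

variable {G : Type u} [Group G]

/-! ### Class functions -/

theorem _root_.Cfsg.IsClassFunction.add {φ ψ : G → ℂ} (hφ : IsClassFunction G φ)
    (hψ : IsClassFunction G ψ) : IsClassFunction G (φ + ψ) := fun g h => by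
  simp [hφ g h, hψ g h]

theorem _root_.Cfsg.IsClassFunction.sub {φ ψ : G → ℂ} (hφ : IsClassFunction G φ)
    (hψ : IsClassFunction G ψ) : IsClassFunction G (φ - ψ) := fun g h => by
  simp [hφ g h, hψ g h]

theorem _root_.Cfsg.IsClassFunction.neg {φ : G → ℂ} (hφ : IsClassFunction G φ) :
    IsClassFunction G (-φ) := fun g h => by
  simp [hφ g h]

theorem _root_.Cfsg.IsClassFunction.mul {φ ψ : G → ℂ} (hφ : IsClassFunction G φ)
    (hψ : IsClassFunction G ψ) : IsClassFunction G (φ * ψ) := fun g h => by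
  simp [hφ g h, hψ g h]

theorem _root_.Cfsg.IsClassFunction.smul {φ : G → ℂ} (c : ℂ) (hφ : IsClassFunction G φ) :
    IsClassFunction G (c • φ) := fun g h => by
  simp [hφ g h]

theorem _root_.Cfsg.IsClassFunction.zsmul {φ : G → ℂ} (c : ℤ) (hφ : IsClassFunction G φ) :
    IsClassFunction G (c • φ) := fun g h => by
  simp [hφ g h]

theorem _root_.Cfsg.IsClassFunction.nsmul {φ : G → ℂ} (c : ℕ) (hφ : IsClassFunction G φ) :
    IsClassFunction G (c • φ) := fun g h => by
  simp [hφ g h]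

theorem _root_.Cfsg.IsClassFunction.conjFun {φ : G → ℂ} (hφ : IsClassFunction G φ) :
    IsClassFunction G (conjFun φ) := fun g h => by
  simp [hφ g h]

theorem isClassFunction_zero : IsClassFunction G 0 := fun _ _ => rfl

theorem isClassFunction_const (c : ℂ) : IsClassFunction G (fun _ => c) := fun _ _ => rfl

theorem isClassFunction_sum {ι : Type*} (s : Finset ι) (f : ι → G → ℂ)
    (hf : ∀ i ∈ s, IsClassFunction G (f i)) : IsClassFunction G (∑ i ∈ s, f i) := fun g h => by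
  simp only [Finset.sum_apply]
  exact Finset.sum_congr rfl fun i hi => hf i hi g h

theorem _root_.Cfsg.IsClassFunction.comp {H : Type v} [Group H] {φ : G → ℂ}
    (hφ : IsClassFunction G φ) (f : H →* G) : IsClassFunction H (fun h => φ (f h)) := fun g h => by
  simp only [map_mul, map_inv]; exact hφ _ _

theorem _root_.Cfsg.IsClassFunction.restrict {φ : G → ℂ} (hφ : IsClassFunction G φ)
    (H : Subgroup G) : IsClassFunction H (fun h => φ h) := hφ.comp H.subtype

theorem _root_.Cfsg.IsClassFunction.conj' {φ : G → ℂ} (hφ : IsClassFunction G φ) (g h : G) :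
    φ (h⁻¹ * g * h) = φ g := by
  simpa using hφ g h⁻¹

theorem _root_.Cfsg.IsClassFunction.mul_comm {φ : G → ℂ} (hφ : IsClassFunction G φ) (g h : G) :
    φ (g * h) = φ (h * g) := by
  rw [← hφ (g * h) h]; simp [mul_assoc]

theorem _root_.Cfsg.IsClassFunction.eq_of_isConj {φ : G → ℂ} (hφ : IsClassFunction G φ) {g h : G}
    (hgh : IsConj g h) : φ g = φ h := by
  obtain ⟨c, rfl⟩ := isConj_iff.1 hgh
  exact (hφ g c).symm

theorem isClassFunction_of_comm [IsMulCommutative G] (φ : G → ℂ) : IsClassFunction G φ := by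
  intro g h
  rw [mul_comm' h g, mul_inv_cancel_right]

/-! ### Characters -/

/-- The trace function of any finite-dimensional representation is a character, afforded on a
coordinate space of the same dimension. -/
theorem exists_rep_fin {V : Type v} [AddCommGroup V] [Module ℂ V] [FiniteDimensional ℂ V]
    (ρ : Representation ℂ G V) :
    ∃ σ : Representation ℂ G (Fin (Module.finrank ℂ V) → ℂ), σ.character = ρ.character := by
  let e : V ≃ₗ[ℂ] (Fin (Module.finrank ℂ V) → ℂ) := (Module.finBasis ℂ V).equivFun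
  refine ⟨(e.conjRingEquiv.toMonoidHom).comp ρ, ?_⟩
  funext g
  exact LinearMap.trace_conj' (ρ g) e

theorem isCharacter_rep {V : Type v} [AddCommGroup V] [Module ℂ V] [FiniteDimensional ℂ V]
    (ρ : Representation ℂ G V) : IsCharacter G ρ.character := by
  obtain ⟨σ, hσ⟩ := exists_rep_fin ρ
  exact ⟨_, σ, hσ⟩

theorem _root_.Cfsg.IsIrrCharacter.isCharacter {χ : G → ℂ} (h : IsIrrCharacter G χ) :
    IsCharacter G χ := by
  obtain ⟨n, ρ, -, h⟩ := h
  exact ⟨n, ρ, h⟩

theorem _root_.Cfsg.IsCharacter.isClassFunction {χ : G → ℂ} (h : IsCharacter G χ) :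
    IsClassFunction G χ := by
  obtain ⟨n, ρ, rfl⟩ := h
  intro g h
  exact ρ.char_conj g h

theorem _root_.Cfsg.IsIrrCharacter.isClassFunction {χ : G → ℂ} (h : IsIrrCharacter G χ) :
    IsClassFunction G χ := h.isCharacter.isClassFunction

theorem _root_.Cfsg.IsCharacter.add {χ ψ : G → ℂ} (hχ : IsCharacter G χ) (hψ : IsCharacter G ψ) :
    IsCharacter G (χ + ψ) := by
  obtain ⟨n, ρ, rfl⟩ := hχ
  obtain ⟨m, σ, rfl⟩ := hψ
  have h := isCharacter_rep (ρ.prod σ)
  convert h using 1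
  funext g
  exact (LinearMap.trace_prodMap' (ρ g) (σ g)).symm

theorem _root_.Cfsg.IsCharacter.mul {χ ψ : G → ℂ} (hχ : IsCharacter G χ) (hψ : IsCharacter G ψ) :
    IsCharacter G (χ * ψ) := by
  obtain ⟨n, ρ, rfl⟩ := hχ
  obtain ⟨m, σ, rfl⟩ := hψ
  rw [← Representation.char_tensor]
  exact isCharacter_rep _

theorem isCharacter_zero : IsCharacter G 0 := by
  refine ⟨0, 1, ?_⟩
  funext g
  simp [Representation.character]

theorem _root_.Cfsg.IsCharacter.comp {H : Type v} [Group H] {χ : G → ℂ} (hχ : IsCharacter G χ)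
    (f : H →* G) : IsCharacter H (fun h => χ (f h)) := by
  obtain ⟨n, ρ, rfl⟩ := hχ
  exact ⟨n, ρ.comp f, rfl⟩

theorem _root_.Cfsg.IsCharacter.restrict {χ : G → ℂ} (hχ : IsCharacter G χ) (H : Subgroup G) :
    IsCharacter H (fun h => χ h) := hχ.comp H.subtype

theorem isCharacter_sum {ι : Type*} (s : Finset ι) (f : ι → G → ℂ)
    (hf : ∀ i ∈ s, IsCharacter G (f i)) : IsCharacter G (∑ i ∈ s, f i) :=
  Finset.sum_induction f (IsCharacter G) (fun _ _ => IsCharacter.add) isCharacter_zero hf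

theorem isCharacter_multiset_sum (s : Multiset (G → ℂ)) (hf : ∀ χ ∈ s, IsCharacter G χ) :
    IsCharacter G s.sum :=
  Multiset.sum_induction (IsCharacter G) s (fun _ _ => IsCharacter.add) isCharacter_zero hf

theorem _root_.Cfsg.IsCharacter.nsmul {χ : G → ℂ} (hχ : IsCharacter G χ) (n : ℕ) :
    IsCharacter G (n • χ) := by
  induction n with
  | zero => simpa using isCharacter_zero
  | succ n ih => rw [succ_nsmul]; exact ih.add hχ

theorem _root_.Cfsg.IsCharacter.natCast_smul {χ : G → ℂ} (hχ : IsCharacter G χ) (n : ℕ) :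
    IsCharacter G ((n : ℂ) • χ) := by
  rw [Nat.cast_smul_eq_nsmul]; exact hχ.nsmul n

theorem _root_.Cfsg.IsCharacter.exists_degree {χ : G → ℂ} (hχ : IsCharacter G χ) :
    ∃ n : ℕ, χ 1 = n := by
  obtain ⟨n, ρ, rfl⟩ := hχ
  exact ⟨n, by simp⟩

theorem _root_.Cfsg.IsCharacter.eq_zero_of_degree {χ : G → ℂ} (hχ : IsCharacter G χ)
    (h : χ 1 = 0) : χ = 0 := by
  obtain ⟨n, ρ, rfl⟩ := hχ
  have hn : n = 0 := by simpa using h
  subst hn
  funext g
  simp [Representation.character, Subsingleton.elim (ρ g) 0]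

theorem _root_.Cfsg.IsIrrCharacter.exists_degree {χ : G → ℂ} (hχ : IsIrrCharacter G χ) :
    ∃ n : ℕ, 0 < n ∧ χ 1 = n := by
  obtain ⟨n, ρ, hρ, rfl⟩ := hχ
  refine ⟨n, Nat.pos_of_ne_zero ?_, by simp⟩
  rintro rfl
  have : (⊥ : Subrepresentation ρ) = ⊤ := by
    apply Subrepresentation.toSubmodule_injective
    exact Subsingleton.elim _ _
  exact bot_ne_top this

theorem _root_.Cfsg.IsIrrCharacter.apply_one_ne_zero {χ : G → ℂ} (hχ : IsIrrCharacter G χ) :
    χ 1 ≠ 0 := by
  obtain ⟨n, hn, h⟩ := hχ.exists_degree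
  rw [h]; exact_mod_cast hn.ne'

theorem _root_.Cfsg.IsIrrCharacter.ne_zero {χ : G → ℂ} (hχ : IsIrrCharacter G χ) : χ ≠ 0 := by
  intro h; exact hχ.apply_one_ne_zero (by simp [h])

/-- The one-dimensional representation attached to a homomorphism to `ℂ`. -/
noncomputable def linRep (f : G →* ℂ) : Representation ℂ G (Fin 1 → ℂ) :=
  (Algebra.ofId ℂ (Module.End ℂ (Fin 1 → ℂ))).toMonoidHom.comp f

theorem linRep_character (f : G →* ℂ) : (linRep f).character = f := by
  funext g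
  simp [linRep, Representation.character, Algebra.algebraMap_eq_smul_one]

theorem isIrreducible_of_finrank_one {V : Type v} [AddCommGroup V] [Module ℂ V]
    (hV : Module.finrank ℂ V = 1) (ρ : Representation ℂ G V) : ρ.IsIrreducible := by
  have hs : IsSimpleOrder (Submodule ℂ V) := is_simple_module_of_finrank_eq_one hV
  refine { exists_pair_ne := ⟨⊥, ⊤, fun h => ?_⟩, eq_bot_or_eq_top := fun W => ?_ }
  · exact bot_ne_top (congrArg Subrepresentation.toSubmodule h)
  · rcases eq_bot_or_eq_top W.toSubmodule with h | h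
    · left; exact Subrepresentation.toSubmodule_injective h
    · right; exact Subrepresentation.toSubmodule_injective h

theorem isIrrCharacter_hom (f : G →* ℂ) : IsIrrCharacter G f :=
  ⟨1, linRep f, isIrreducible_of_finrank_one (by simp) _, linRep_character f⟩

theorem isIrrCharacter_unitsHom (f : G →* ℂˣ) : IsIrrCharacter G (fun g => (f g : ℂ)) :=
  isIrrCharacter_hom ((Units.coeHom ℂ).comp f)

theorem isIrrCharacter_one : IsIrrCharacter G (fun _ => 1) := isIrrCharacter_hom 1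

theorem isCharacter_one : IsCharacter G (fun _ => 1) := isIrrCharacter_one.isCharacter

/-- A character of degree one is a homomorphism. -/
theorem _root_.Cfsg.IsCharacter.exists_hom_of_degree_one {χ : G → ℂ} (hχ : IsCharacter G χ)
    (h1 : χ 1 = 1) : ∃ f : G →* ℂˣ, χ = fun g => (f g : ℂ) := by
  obtain ⟨n, ρ, rfl⟩ := hχ
  have hn : n = 1 := by simpa using h1
  subst hn
  have key : ∀ g, ρ.character g = LinearMap.det (ρ g) := by
    intro g
    rw [Representation.character, LinearMap.trace_eq_matrix_trace ℂ (Pi.basisFun ℂ (Fin 1)),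
      ← LinearMap.det_toMatrix (Pi.basisFun ℂ (Fin 1)), Matrix.trace_fin_one, Matrix.det_fin_one]
  refine ⟨((LinearMap.det : (_ →ₗ[ℂ] _) →* ℂ).comp ρ).toHomUnits, ?_⟩
  funext g
  simp [key]

theorem _root_.Cfsg.IsIrrCharacter.degree_one_of_comm [IsMulCommutative G] {χ : G → ℂ}
    (hχ : IsIrrCharacter G χ) : χ 1 = 1 := by
  obtain ⟨n, ρ, hρ, rfl⟩ := hχ
  have := Representation.IsIrreducible.finrank_eq_one_of_isMulCommutative ρ
  rw [Representation.char_one, this]; simp

theorem _root_.Cfsg.IsIrrCharacter.exists_hom_of_comm [IsMulCommutative G] {χ : G → ℂ}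
    (hχ : IsIrrCharacter G χ) : ∃ f : G →* ℂˣ, χ = fun g => (f g : ℂ) :=
  hχ.isCharacter.exists_hom_of_degree_one hχ.degree_one_of_comm

theorem character_eq_add_of_isCompl {V : Type v} [AddCommGroup V] [Module ℂ V]
    [FiniteDimensional ℂ V] (ρ : Representation ℂ G V) (W W' : Subrepresentation ρ)
    (h : IsCompl W.toSubmodule W'.toSubmodule) :
    ρ.character = W.toRepresentation.character + W'.toRepresentation.character := by
  funext g
  let e := Submodule.prodEquivOfIsCompl _ _ h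
  have : ρ g = e.conj ((W.toRepresentation g).prodMap (W'.toRepresentation g)) := by
    ext v
    obtain ⟨⟨a, b⟩, rfl⟩ := e.surjective v
    simp [e, Subrepresentation.toRepresentation]
  rw [Representation.character, this, LinearMap.trace_conj', LinearMap.trace_prodMap']
  rfl

variable [Finite G]

/-- Every character is a sum of irreducible characters. -/
theorem _root_.Cfsg.IsCharacter.exists_multiset {χ : G → ℂ} (hχ : IsCharacter G χ) :
    ∃ s : Multiset (G → ℂ), (∀ ψ ∈ s, IsIrrCharacter G ψ) ∧ χ = s.sum := by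
  obtain ⟨n, ρ, rfl⟩ := hχ
  induction n using Nat.strong_induction_on with
  | _ n ih =>
  by_cases hρ : ρ.IsIrreducible
  · exact ⟨{ρ.character}, by simpa using ⟨n, ρ, hρ, rfl⟩, by simp⟩
  rcases Nat.eq_zero_or_pos n with rfl | hn
  · refine ⟨0, by simp, ?_⟩
    funext g
    simp [Representation.character, Subsingleton.elim (ρ g) 0]
  have hnt : Nontrivial (Subrepresentation ρ) := by
    refine ⟨⊥, ⊤, fun h => ?_⟩
    have : Nonempty (Fin n) := ⟨⟨0, hn⟩⟩
    exact bot_ne_top (congrArg Subrepresentation.toSubmodule h)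
  obtain ⟨W, hW⟩ : ∃ W : Subrepresentation ρ, W ≠ ⊥ ∧ W ≠ ⊤ := by
    by_contra hcon
    push Not at hcon
    exact hρ { eq_bot_or_eq_top := fun W => by by_cases h : W = ⊥ <;> simp [h, hcon W] }
  have : NeZero (Nat.card G : ℂ) := ⟨card_ne_zero_complex G⟩
  obtain ⟨W', hW'⟩ := exists_isCompl W
  have hc : IsCompl W.toSubmodule W'.toSubmodule := by
    constructor
    · rw [disjoint_iff]
      exact congrArg Subrepresentation.toSubmodule hW'.inf_eq_bot
    · rw [codisjoint_iff]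
      exact congrArg Subrepresentation.toSubmodule hW'.sup_eq_top
  have hdim := Submodule.finrank_add_eq_of_isCompl hc
  have h1 : W.toSubmodule ≠ ⊥ := fun h => hW.1 (Subrepresentation.toSubmodule_injective h)
  have h2 : W'.toSubmodule ≠ ⊥ := fun h => by
    have h' : W' = ⊥ := Subrepresentation.toSubmodule_injective h
    apply hW.2
    simpa [h'] using hW'.sup_eq_top
  have h1' : 0 < Module.finrank ℂ W.toSubmodule := by
    rw [pos_iff_ne_zero, Ne, Submodule.finrank_eq_zero]; exact h1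
  have h2' : 0 < Module.finrank ℂ W'.toSubmodule := by
    rw [pos_iff_ne_zero, Ne, Submodule.finrank_eq_zero]; exact h2
  simp only [Module.finrank_fintype_fun_eq_card, Fintype.card_fin] at hdim
  obtain ⟨σ, hσ⟩ := exists_rep_fin W.toRepresentation
  obtain ⟨σ', hσ'⟩ := exists_rep_fin W'.toRepresentation
  obtain ⟨s, hs, hs'⟩ := ih _ (by omega) σ
  obtain ⟨t, ht, ht'⟩ := ih _ (by omega) σ'
  refine ⟨s + t, ?_, ?_⟩
  · intro ψ hψ
    rcases Multiset.mem_add.1 hψ with h | h
    · exact hs ψ h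
    · exact ht ψ h
  · rw [character_eq_add_of_isCompl ρ W W' hc, Multiset.sum_add, ← hs', ← ht', hσ, hσ']

/-- Induction principle for characters. -/
theorem _root_.Cfsg.IsCharacter.induction_on {χ : G → ℂ} (hχ : IsCharacter G χ)
    {P : (G → ℂ) → Prop} (h0 : P 0) (hirr : ∀ ψ, IsIrrCharacter G ψ → P ψ)
    (hadd : ∀ φ ψ, IsCharacter G φ → IsCharacter G ψ → P φ → P ψ → P (φ + ψ)) : P χ := by
  obtain ⟨s, hs, rfl⟩ := hχ.exists_multiset
  induction s using Multiset.induction_on with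
  | empty => simpa using h0
  | cons a s ih =>
    rw [Multiset.sum_cons]
    have hs' : ∀ ψ ∈ s, IsIrrCharacter G ψ := fun ψ h => hs ψ (Multiset.mem_cons_of_mem h)
    have hc : IsCharacter G s.sum := isCharacter_multiset_sum s fun ψ h => (hs' ψ h).isCharacter
    have ha := hs a (Multiset.mem_cons_self a s)
    exact hadd _ _ ha.isCharacter hc (hirr a ha) (ih hs' hc)

/-- The eigenvalues of a group element: the values of a character on the powers of `g` are the
power sums of a multiset of roots of unity. -/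
theorem _root_.Cfsg.IsCharacter.exists_eigenvalues {χ : G → ℂ} (hχ : IsCharacter G χ) (g : G) :
    ∃ s : Multiset ℂ, (∀ z ∈ s, z ^ orderOf g = 1) ∧
      ∀ k : ℤ, χ (g ^ k) = (s.map (fun z => z ^ k)).sum := by
  have h := hχ.restrict (Subgroup.zpowers g)
  suffices key : ∀ ψ : Subgroup.zpowers g → ℂ, IsCharacter _ ψ →
      ∃ s : Multiset ℂ, (∀ z ∈ s, z ^ orderOf g = 1) ∧
      ∀ k : ℤ, ψ (⟨g, Subgroup.mem_zpowers g⟩ ^ k) = (s.map (fun z => z ^ k)).sum from key _ h
  intro ψ hψ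
  refine hψ.induction_on (P := fun ψ => ∃ s : Multiset ℂ, (∀ z ∈ s, z ^ orderOf g = 1) ∧
      ∀ k : ℤ, ψ (⟨g, Subgroup.mem_zpowers g⟩ ^ k) = (s.map (fun z => z ^ k)).sum) ?_ ?_ ?_
  · exact ⟨0, by simp, by simp⟩
  · intro φ hφ
    obtain ⟨f, rfl⟩ := hφ.exists_hom_of_comm
    refine ⟨{(f ⟨g, Subgroup.mem_zpowers g⟩ : ℂ)}, ?_, ?_⟩
    · intro z hz
      rw [Multiset.mem_singleton.1 hz, ← Units.val_pow_eq_pow_val, ← map_pow]
      have : (⟨g, Subgroup.mem_zpowers g⟩ : Subgroup.zpowers g) ^ orderOf g = 1 := by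
        ext; simp
      rw [this]; simp
    · intro k; simp
  · rintro φ φ' - - ⟨s, hs, hs'⟩ ⟨t, ht, ht'⟩
    refine ⟨s + t, ?_, ?_⟩
    · intro z hz
      rcases Multiset.mem_add.1 hz with h | h
      · exact hs z h
      · exact ht z h
    · intro k; simp [hs', ht']

theorem norm_eq_one_of_pow_eq_one {z : ℂ} {n : ℕ} (hn : n ≠ 0) (h : z ^ n = 1) : ‖z‖ = 1 :=
  Complex.norm_eq_one_of_pow_eq_one h hn

theorem _root_.Cfsg.IsCharacter.apply_inv {χ : G → ℂ} (hχ : IsCharacter G χ) (g : G) :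
    χ g⁻¹ = conj (χ g) := by
  obtain ⟨s, hs, hs'⟩ := hχ.exists_eigenvalues g
  have h1 := hs' 1
  have h2 := hs' (-1)
  simp only [zpow_one, zpow_neg] at h1 h2
  rw [h1, h2, map_multiset_sum, Multiset.map_map]
  congr 1
  refine Multiset.map_congr rfl fun z hz => ?_
  have := norm_eq_one_of_pow_eq_one (orderOf_pos g).ne' (hs z hz)
  simp [Complex.inv_eq_conj this]

theorem _root_.Cfsg.IsCharacter.conjFun_eq {χ : G → ℂ} (hχ : IsCharacter G χ) :
    conjFun χ = fun g => χ g⁻¹ := by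
  funext g; rw [hχ.apply_inv]; rfl

theorem _root_.Cfsg.IsCharacter.conjFun {χ : G → ℂ} (hχ : IsCharacter G χ) :
    IsCharacter G (conjFun χ) := by
  rw [hχ.conjFun_eq]
  obtain ⟨n, ρ, rfl⟩ := hχ
  have := isCharacter_rep ρ.dual
  convert this using 1
  funext g
  rw [Representation.char_dual]

theorem _root_.Cfsg.IsCharacter.norm_le {χ : G → ℂ} (hχ : IsCharacter G χ) (g : G) :
    ‖χ g‖ ≤ ‖χ 1‖ := by
  obtain ⟨s, hs, hs'⟩ := hχ.exists_eigenvalues g
  have h1 := hs' 1
  have h0 := hs' 0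
  simp only [zpow_one, zpow_zero, Multiset.map_const', Multiset.sum_replicate, nsmul_eq_mul,
    mul_one, Multiset.map_id'] at h1 h0
  rw [h1, h0, Complex.norm_natCast]
  refine (norm_multiset_sum_le s).trans ?_
  have : s.map (fun z => ‖z‖) = s.map (fun _ => (1 : ℝ)) :=
    Multiset.map_congr rfl fun z hz => norm_eq_one_of_pow_eq_one (orderOf_pos g).ne' (hs z hz)
  rw [this]; simp

theorem _root_.Cfsg.IsCharacter.conj_one {χ : G → ℂ} (hχ : IsCharacter G χ) :
    conj (χ 1) = χ 1 := by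
  rw [← hχ.apply_inv, inv_one]

end General

section Orth

variable {G : Type u} [Group G] [Fintype G]

theorem ci_eq_sum_inv (φ : G → ℂ) {χ : G → ℂ} (hχ : IsCharacter G χ) :
    ⟪φ, χ⟫ = (Nat.card G : ℂ)⁻¹ * ∑ g : G, φ g * χ g⁻¹ := by
  simp only [ci_def, hχ.apply_inv]

theorem _root_.Cfsg.IsIrrCharacter.ci_self {χ : G → ℂ} (hχ : IsIrrCharacter G χ) : ⟪χ, χ⟫ = 1 := by
  rw [ci_eq_sum_inv _ hχ.isCharacter]
  obtain ⟨n, ρ, hρ, rfl⟩ := hχ
  have : Invertible (Nat.card G : ℂ) := invertibleOfNonzero (card_ne_zero_complex G)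
  rw [Representation.char_orthonormal, if_pos ⟨Representation.Equiv.refl ρ⟩]

theorem _root_.Cfsg.IsIrrCharacter.ci_of_ne {χ ψ : G → ℂ} (hχ : IsIrrCharacter G χ)
    (hψ : IsIrrCharacter G ψ) (hne : χ ≠ ψ) : ⟪χ, ψ⟫ = 0 := by
  rw [ci_eq_sum_inv _ hψ.isCharacter]
  obtain ⟨n, ρ, hρ, rfl⟩ := hχ
  obtain ⟨m, σ, hσ, rfl⟩ := hψ
  have : Invertible (Nat.card G : ℂ) := invertibleOfNonzero (card_ne_zero_complex G)
  rw [Representation.char_orthonormal, if_neg]
  rintro ⟨e⟩
  exact hne (Representation.char_iso e).symm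

theorem _root_.Cfsg.IsIrrCharacter.ci_eq_ite {χ ψ : G → ℂ} (hχ : IsIrrCharacter G χ)
    (hψ : IsIrrCharacter G ψ) [Decidable (χ = ψ)] : ⟪χ, ψ⟫ = if χ = ψ then 1 else 0 := by
  split_ifs with h
  · subst h; exact hχ.ci_self
  · exact hχ.ci_of_ne hψ h

theorem _root_.Cfsg.IsIrrCharacter.eq_of_ci_ne_zero {χ ψ : G → ℂ} (hχ : IsIrrCharacter G χ)
    (hψ : IsIrrCharacter G ψ) (h : ⟪χ, ψ⟫ ≠ 0) : χ = ψ := by
  by_contra hne; exact h (hχ.ci_of_ne hψ hne)

theorem _root_.Cfsg.IsIrrCharacter.nsq {χ : G → ℂ} (hχ : IsIrrCharacter G χ) : nsq χ = 1 :=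
  nsq_eq_of_ci (by rw [hχ.ci_self]; simp)

/-- A class function acts as a scalar in an irreducible representation; in terms of characters. -/
theorem _root_.Cfsg.IsIrrCharacter.sum_class_mul {χ : G → ℂ} (hχ : IsIrrCharacter G χ)
    {f : G → ℂ} (hf : IsClassFunction G f) (h : G) :
    χ 1 * ∑ g : G, f g * χ (g * h) = (∑ g : G, f g * χ g) * χ h := by
  obtain ⟨n, ρ, hρ, rfl⟩ := hχ
  let T : Module.End ℂ (Fin n → ℂ) := ∑ g : G, f g • ρ g
  have hT : ∀ x : G, T ∘ₗ ρ x = ρ x ∘ₗ T := by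
    intro x
    simp only [T, ← Module.End.mul_eq_comp, Finset.sum_mul, Finset.mul_sum, smul_mul_assoc,
      mul_smul_comm, ← map_mul]
    refine Fintype.sum_equiv (MulAut.conj x⁻¹).toEquiv _ _ fun g => ?_
    simp only [MulEquiv.toEquiv_eq_coe, EquivLike.coe_coe, MulAut.conj_apply, inv_inv]
    rw [hf.conj' g x]
    congr 2
    group
  obtain ⟨c, hc⟩ :=
    (Representation.IsIrreducible.algebraMap_intertwiningMap_bijective_of_isAlgClosed
      (ρ := ρ)).2 ⟨T, hT⟩
  have hc' : T = c • 1 := by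
    have := congrArg (fun f : ρ.IntertwiningMap ρ => f.toLinearMap) hc
    exact this.symm
  have key : ∀ x : G, ∑ g : G, f g * ρ.character (g * x) = c * ρ.character x := by
    intro x
    have : LinearMap.trace ℂ _ (T * ρ x) = c * ρ.character x := by
      rw [hc']; simp [Representation.character]
    rw [← this]
    simp [T, Finset.sum_mul, Representation.character]
  have k1 := key 1
  simp only [mul_one] at k1
  rw [key h, k1]
  ring

open Classical in
/-- The regular character. -/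
theorem isCharacter_regular :
    IsCharacter G (fun g => if g = 1 then (Nat.card G : ℂ) else 0) := by
  have := isCharacter_rep (Representation.ofMulAction ℂ G G)
  convert this using 1
  funext g
  rw [Representation.character,
    LinearMap.trace_eq_matrix_trace ℂ (MonoidAlgebra.basis G ℂ), Matrix.trace]
  simp only [Matrix.diag_apply, LinearMap.toMatrix_apply, MonoidAlgebra.basis_apply,
    Representation.ofMulAction_single, smul_eq_mul]
  have : ∀ x : G, ((MonoidAlgebra.basis G ℂ).repr (MonoidAlgebra.single (g * x) (1 : ℂ))) x =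
      if g = 1 then 1 else 0 := by
    intro x
    rw [← MonoidAlgebra.basis_apply, Module.Basis.repr_self, Finsupp.single_apply]
    simp
  simp only [this]
  split_ifs <;> simp

/-- Completeness: a class function orthogonal to all irreducible characters vanishes. -/
theorem _root_.Cfsg.IsClassFunction.eq_zero_of_ci_irr {f : G → ℂ} (hf : IsClassFunction G f)
    (h : ∀ χ, IsIrrCharacter G χ → ⟪f, χ⟫ = 0) : f = 0 := by
  classical
  have hf' : IsClassFunction G (conjFun f) := hf.conjFun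
  have key : ∀ ψ, IsCharacter G ψ → ∀ x : G, ∑ g : G, conjFun f g * ψ (g * x) = 0 := by
    intro ψ hψ
    refine hψ.induction_on (P := fun ψ => ∀ x : G, ∑ g : G, conjFun f g * ψ (g * x) = 0) ?_ ?_ ?_
    · simp
    · intro χ hχ x
      have h1 := hχ.sum_class_mul hf' x
      have h2 : ∑ g : G, conjFun f g * χ g = 0 := by
        have := card_mul_ci χ f
        rw [ci_eq_zero_symm (h χ hχ), mul_zero] at this
        rw [this]
        exact Finset.sum_congr rfl fun g _ => mul_comm _ _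
      rw [h2, zero_mul] at h1
      exact (mul_eq_zero.1 h1).resolve_left hχ.apply_one_ne_zero
    · intro φ φ' _ _ h1 h2 x
      simp only [Pi.add_apply, mul_add, Finset.sum_add_distrib, h1 x, h2 x, add_zero]
  funext x
  have := key _ isCharacter_regular x⁻¹
  rw [Finset.sum_eq_single x] at this
  · simpa [card_ne_zero_complex G] using this
  · intro b _ hb
    rw [if_neg, mul_zero]
    rwa [mul_inv_eq_one]
  · simp

theorem _root_.Cfsg.IsClassFunction.ext_irr {f f' : G → ℂ} (hf : IsClassFunction G f)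
    (hf' : IsClassFunction G f') (h : ∀ χ, IsIrrCharacter G χ → ⟪f, χ⟫ = ⟪f', χ⟫) : f = f' := by
  rw [← sub_eq_zero]
  exact (hf.sub hf').eq_zero_of_ci_irr fun χ hχ => by rw [ci_sub_left, h χ hχ, sub_self]

omit [Fintype G] in
theorem finite_irrCharacter [Finite G] : Finite (IrrCharacter G) := by
  have := Fintype.ofFinite G
  have h : LinearIndependent ℂ (fun χ : IrrCharacter G => χ.1) :=
    linearIndependent_of_orth _ (fun χ => χ.2.ne_zero)
      (fun χ ψ h => χ.2.ci_of_ne ψ.2 (fun h' => h (Subtype.ext h')))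
  exact h.finite

end Orth

/-- The finite set of irreducible characters. -/
noncomputable def Irr (G : Type u) [Group G] [Finite G] : Finset (G → ℂ) :=
  (Set.finite_coe_iff.1 (finite_irrCharacter (G := G)) :
    Set.Finite {χ : G → ℂ | IsIrrCharacter G χ}).toFinset

@[simp] theorem mem_Irr {G : Type u} [Group G] [Finite G] {χ : G → ℂ} :
    χ ∈ Irr G ↔ IsIrrCharacter G χ := by
  simp [Irr]

theorem finite_setOf_irr {G : Type u} [Group G] [Finite G] :
    Set.Finite {χ : G → ℂ | IsIrrCharacter G χ} :=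
  Set.finite_coe_iff.1 (finite_irrCharacter (G := G))

theorem card_Irr (G : Type u) [Group G] [Finite G] : (Irr G).card = Nat.card (IrrCharacter G) := by
  rw [← Nat.card_eq_finsetCard]
  exact Nat.card_congr (Equiv.subtypeEquivRight fun χ => mem_Irr)

section Expansion

variable {G : Type u} [Group G] [Fintype G]

theorem irr_orthonormal [DecidableEq (G → ℂ)] :
    ∀ χ ∈ Irr G, ∀ ψ ∈ Irr G, ⟪χ, ψ⟫ = if χ = ψ then 1 else 0 :=
  fun _ hχ _ hψ => (mem_Irr.1 hχ).ci_eq_ite (mem_Irr.1 hψ)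

theorem ci_sum_smul_irr (c : (G → ℂ) → ℂ) {ψ : G → ℂ} (hψ : IsIrrCharacter G ψ) :
    ⟪∑ χ ∈ Irr G, c χ • χ, ψ⟫ = c ψ := by
  classical
  exact ci_sum_smul_orthonormal (Irr G) (fun χ => χ) irr_orthonormal c (mem_Irr.2 hψ)

theorem isClassFunction_sum_smul_irr (c : (G → ℂ) → ℂ) :
    IsClassFunction G (∑ χ ∈ Irr G, c χ • χ) :=
  isClassFunction_sum _ _ fun _ hχ => (mem_Irr.1 hχ).isClassFunction.smul _

/-- Expansion of a class function in the basis of irreducible characters. -/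
theorem _root_.Cfsg.IsClassFunction.eq_sum_irr {f : G → ℂ} (hf : IsClassFunction G f) :
    f = ∑ χ ∈ Irr G, ⟪f, χ⟫ • χ :=
  hf.ext_irr (isClassFunction_sum_smul_irr _) fun χ hχ => by rw [ci_sum_smul_irr _ hχ]

theorem _root_.Cfsg.IsClassFunction.apply_eq_sum_irr {f : G → ℂ} (hf : IsClassFunction G f)
    (g : G) : f g = ∑ χ ∈ Irr G, ⟪f, χ⟫ * χ g := by
  conv_lhs => rw [hf.eq_sum_irr]
  simp [Finset.sum_apply]

/-- Parseval. -/
theorem _root_.Cfsg.IsClassFunction.ci_eq_sum_irr {f : G → ℂ} (hf : IsClassFunction G f)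
    (f' : G → ℂ) : ⟪f, f'⟫ = ∑ χ ∈ Irr G, ⟪f, χ⟫ * conj ⟪f', χ⟫ := by
  conv_lhs => rw [hf.eq_sum_irr, ci_sum_left]
  exact Finset.sum_congr rfl fun χ _ => by rw [ci_smul_left, ci_conj_symm]

theorem _root_.Cfsg.IsClassFunction.nsq_eq_sum_irr {f : G → ℂ} (hf : IsClassFunction G f) :
    nsq f = ∑ χ ∈ Irr G, ‖⟪f, χ⟫‖ ^ 2 := by
  apply nsq_eq_of_ci
  rw [hf.ci_eq_sum_irr]
  simp only [Complex.mul_conj, Complex.normSq_eq_norm_sq]
  push_cast; rfl

theorem _root_.Cfsg.IsClassFunction.exists_irr_ci_ne_zero {f : G → ℂ} (hf : IsClassFunction G f)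
    (h : f ≠ 0) : ∃ χ, IsIrrCharacter G χ ∧ ⟪f, χ⟫ ≠ 0 := by
  by_contra hcon
  push Not at hcon
  exact h (hf.eq_zero_of_ci_irr hcon)

/-- If two class functions are not orthogonal, they have a common irreducible constituent. -/
theorem _root_.Cfsg.IsClassFunction.exists_irr_common {f f' : G → ℂ} (hf : IsClassFunction G f)
    (h : ⟪f, f'⟫ ≠ 0) : ∃ χ, IsIrrCharacter G χ ∧ ⟪f, χ⟫ ≠ 0 ∧ ⟪f', χ⟫ ≠ 0 := by
  rw [hf.ci_eq_sum_irr] at h
  obtain ⟨χ, hχ, h'⟩ := Finset.exists_ne_zero_of_sum_ne_zero h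
  refine ⟨χ, mem_Irr.1 hχ, left_ne_zero_of_mul h', ?_⟩
  simpa using right_ne_zero_of_mul h'

theorem _root_.Cfsg.IsCharacter.ci_irr_nat {φ χ : G → ℂ} (hφ : IsCharacter G φ)
    (hχ : IsIrrCharacter G χ) : ∃ n : ℕ, ⟪φ, χ⟫ = n := by
  classical
  refine hφ.induction_on (P := fun φ => ∃ n : ℕ, ⟪φ, χ⟫ = n) ⟨0, by simp⟩ ?_ ?_
  · intro ψ hψ
    rw [hψ.ci_eq_ite hχ]
    split_ifs
    · exact ⟨1, by simp⟩
    · exact ⟨0, by simp⟩
  · rintro a b - - ⟨n, hn⟩ ⟨m, hm⟩
    exact ⟨n + m, by rw [ci_add_left, hn, hm]; simp⟩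

theorem _root_.Cfsg.IsCharacter.ci_nat {φ χ : G → ℂ} (hφ : IsCharacter G φ)
    (hχ : IsCharacter G χ) : ∃ n : ℕ, ⟪φ, χ⟫ = n := by
  refine hχ.induction_on (P := fun χ => ∃ n : ℕ, ⟪φ, χ⟫ = n) ⟨0, by simp⟩
    (fun ψ hψ => hφ.ci_irr_nat hψ) ?_
  rintro a b - - ⟨n, hn⟩ ⟨m, hm⟩
  exact ⟨n + m, by rw [ci_add_right, hn, hm]; simp⟩

theorem _root_.Cfsg.IsCharacter.ci_comm {φ χ : G → ℂ} (hφ : IsCharacter G φ)
    (hχ : IsCharacter G χ) : ⟪φ, χ⟫ = ⟪χ, φ⟫ := by
  obtain ⟨n, hn⟩ := hφ.ci_nat hχ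
  rw [hn, ci_symm_of_nat hn]

theorem isCharacter_of_ci_nat {f : G → ℂ} (hf : IsClassFunction G f)
    (h : ∀ χ, IsIrrCharacter G χ → ∃ n : ℕ, ⟪f, χ⟫ = n) : IsCharacter G f := by
  rw [hf.eq_sum_irr]
  refine isCharacter_sum _ _ fun χ hχ => ?_
  obtain ⟨n, hn⟩ := h χ (mem_Irr.1 hχ)
  rw [hn]
  exact (mem_Irr.1 hχ).isCharacter.natCast_smul n

theorem _root_.Cfsg.IsCharacter.exists_irr_ci_ne_zero {φ : G → ℂ} (hφ : IsCharacter G φ)
    (h : φ ≠ 0) : ∃ χ, IsIrrCharacter G χ ∧ ⟪φ, χ⟫ ≠ 0 :=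
  hφ.isClassFunction.exists_irr_ci_ne_zero h

/-- Removing a constituent from a character leaves a character. -/
theorem _root_.Cfsg.IsCharacter.sub_ci_smul {φ χ : G → ℂ} (hφ : IsCharacter G φ)
    (hχ : IsIrrCharacter G χ) : IsCharacter G (φ - ⟪φ, χ⟫ • χ) := by
  classical
  refine isCharacter_of_ci_nat (hφ.isClassFunction.sub (hχ.isClassFunction.smul _)) fun ψ hψ => ?_
  rw [ci_sub_left, ci_smul_left, hχ.ci_eq_ite hψ]
  split_ifs with h
  · subst h; exact ⟨0, by simp⟩
  · simpa using hφ.ci_irr_nat hψ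

theorem _root_.Cfsg.IsCharacter.sub_irr {φ χ : G → ℂ} (hφ : IsCharacter G φ)
    (hχ : IsIrrCharacter G χ) (h : ⟪φ, χ⟫ ≠ 0) : IsCharacter G (φ - χ) := by
  classical
  refine isCharacter_of_ci_nat (hφ.isClassFunction.sub hχ.isClassFunction) fun ψ hψ => ?_
  rw [ci_sub_left, hχ.ci_eq_ite hψ]
  split_ifs with h'
  · subst h'
    obtain ⟨n, hn⟩ := hφ.ci_irr_nat hψ
    rw [hn] at h ⊢
    obtain ⟨m, rfl⟩ : ∃ m, n = m + 1 := Nat.exists_eq_succ_of_ne_zero (by simpa using h)
    exact ⟨m, by simp⟩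
  · simpa using hφ.ci_irr_nat hψ

/-- A character of norm one is irreducible. -/
theorem _root_.Cfsg.IsCharacter.isIrr_of_ci_self {φ : G → ℂ} (hφ : IsCharacter G φ)
    (h : ⟪φ, φ⟫ = 1) : IsIrrCharacter G φ := by
  have h0 : φ ≠ 0 := by rintro rfl; simp at h
  obtain ⟨χ, hχ, hne⟩ := hφ.exists_irr_ci_ne_zero h0
  have h1 := hφ.sub_irr hχ hne
  obtain ⟨n, hn⟩ := h1.ci_irr_nat hχ
  have h2 : nsq φ = nsq (φ - χ) + 1 + 2 * n := by
    conv_lhs => rw [← sub_add_cancel φ χ, nsq_add, hn, hχ.nsq]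
    simp
  have h3 : nsq φ = 1 := nsq_eq_of_ci (by rw [h]; simp)
  have h4 : nsq (φ - χ) = 0 := by
    have := nsq_nonneg (φ - χ)
    have : (0 : ℝ) ≤ n := Nat.cast_nonneg n
    linarith
  rwa [sub_eq_zero.1 (nsq_eq_zero.1 h4)]

theorem _root_.Cfsg.IsCharacter.isIrr_of_nsq {φ : G → ℂ} (hφ : IsCharacter G φ)
    (h : nsq φ = 1) : IsIrrCharacter G φ :=
  hφ.isIrr_of_ci_self (by rw [ci_self, h]; simp)

theorem isIrrCharacter_iff {φ : G → ℂ} : IsIrrCharacter G φ ↔ IsCharacter G φ ∧ ⟪φ, φ⟫ = 1 :=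
  ⟨fun h => ⟨h.isCharacter, h.ci_self⟩, fun h => h.1.isIrr_of_ci_self h.2⟩

end Expansion

section More

variable {G : Type u} [Group G] [Finite G]

theorem _root_.Cfsg.IsIrrCharacter.conjFun {χ : G → ℂ} (hχ : IsIrrCharacter G χ) :
    IsIrrCharacter G (conjFun χ) := by
  have := Fintype.ofFinite G
  exact hχ.isCharacter.conjFun.isIrr_of_ci_self (by rw [ci_conjFun', hχ.ci_self])

theorem _root_.Cfsg.IsIrrCharacter.comp_equiv {H : Type v} [Group H] {χ : G → ℂ}
    (hχ : IsIrrCharacter G χ) (e : H ≃* G) : IsIrrCharacter H (fun h => χ (e h)) := by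
  have := Fintype.ofFinite G
  have := Fintype.ofEquiv G e.symm.toEquiv
  refine (hχ.isCharacter.comp e.toMonoidHom).isIrr_of_ci_self ?_
  rw [← hχ.ci_self]
  exact ci_comp_equiv e.toEquiv χ χ

theorem _root_.Cfsg.IsCharacter.isIrr_of_degree_one {χ : G → ℂ} (hχ : IsCharacter G χ)
    (h : χ 1 = 1) : IsIrrCharacter G χ := by
  obtain ⟨f, rfl⟩ := hχ.exists_hom_of_degree_one h
  exact isIrrCharacter_unitsHom f

theorem norm_unitsHom (f : G →* ℂˣ) (g : G) : ‖(f g : ℂ)‖ = 1 := by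
  apply norm_eq_one_of_pow_eq_one (orderOf_pos g).ne'
  rw [← Units.val_pow_eq_pow_val, ← map_pow, pow_orderOf_eq_one, map_one, Units.val_one]

theorem conj_unitsHom (f : G →* ℂˣ) (g : G) : conj (f g : ℂ) = (f⁻¹ g : ℂˣ) := by
  rw [← Complex.inv_eq_conj (norm_unitsHom f g)]; simp

theorem unitsHom_mul_conj (f : G →* ℂˣ) (g : G) : (f g : ℂ) * conj (f g : ℂ) = 1 := by
  rw [conj_unitsHom]; simp

theorem unitsHom_coe_injective :
    Function.Injective (fun (f : G →* ℂˣ) => (fun g => (f g : ℂ) : G → ℂ)) := by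
  intro f f' h
  ext g
  exact congrFun h g

/-- The product of an irreducible character with a linear character is irreducible. -/
theorem _root_.Cfsg.IsIrrCharacter.unitsHom_mul {χ : G → ℂ} (hχ : IsIrrCharacter G χ)
    (f : G →* ℂˣ) : IsIrrCharacter G (fun g => (f g : ℂ) * χ g) := by
  have := Fintype.ofFinite G
  refine ((isIrrCharacter_unitsHom f).isCharacter.mul hχ.isCharacter).isIrr_of_ci_self ?_
  rw [← hχ.ci_self]
  simp only [ci_def, Pi.mul_apply, map_mul]
  congr 1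
  refine Finset.sum_congr rfl fun g _ => ?_
  have := unitsHom_mul_conj f g
  linear_combination (χ g * conj (χ g)) * this

end More

end Cfsg.Agent.Char
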