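import Cfsg.Agent.Char.Columns

/-!
# Clifford theory
-/

set_option autoImplicit false
set_option linter.unusedSectionVars false

namespace Cfsg.Agent.Char

open Cfsg
open scoped ComplexConjugate

universe u v w

/-- An embedding of `H` as a normal subgroup of `G`, with the conjugation action. -/
structure NormalEmb (H : Type v) (G : Type u) [Group H] [Group G] where
  /-- the embedding -/
  f : H →* G
  inj : Function.Injective f
  /-- the conjugation action -/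
  act : G →* MulAut H
  map_act : ∀ g h, f (act g h) = g * f h * g⁻¹

namespace NormalEmb

variable {G : Type u} [Group G] {H : Type v} [Group H]

/-- A normal subgroup. -/
def ofNormal (N : Subgroup G) [N.Normal] : NormalEmb N G where
  f := N.subtype
  inj := N.subtype_injective
  act := MulAut.conjNormal
  map_act _ _ := rfl

/-- A normal subgroup of `G`, seen inside a bigger subgroup. -/
def ofLe (N T : Subgroup G) [N.Normal] (h : N ≤ T) : NormalEmb N T where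
  f := Subgroup.inclusion h
  inj := Subgroup.inclusion_injective h
  act := MulAut.conjNormal.comp T.subtype
  map_act _ _ := rfl

@[simp] theorem ofNormal_f (N : Subgroup G) [N.Normal] : (ofNormal N).f = N.subtype := rfl

@[simp] theorem ofLe_f (N T : Subgroup G) [N.Normal] (h : N ≤ T) :
    (ofLe N T h).f = Subgroup.inclusion h := rfl

variable (E : NormalEmb H G)

theorem act_f (k h : H) : E.act (E.f k) h = k * h * k⁻¹ := E.inj (by simp [E.map_act])

theorem range_normal : E.f.range.Normal := by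
  refine ⟨?_⟩
  rintro _ ⟨h, rfl⟩ g
  exact ⟨E.act g h, E.map_act g h⟩

/-- The conjugate of a function. -/
def cj (θ : H → ℂ) (g : G) : H → ℂ := fun h => θ (E.act g h)

theorem cj_apply (θ : H → ℂ) (g : G) (h : H) : E.cj θ g h = θ (E.act g h) := rfl

@[simp] theorem cj_one (θ : H → ℂ) : E.cj θ 1 = θ := by funext h; simp [cj]

theorem cj_mul (θ : H → ℂ) (g g' : G) : E.cj θ (g * g') = E.cj (E.cj θ g) g' := by
  funext h; simp [cj]

@[simp] theorem cj_cj_inv (θ : H → ℂ) (g : G) : E.cj (E.cj θ g) g⁻¹ = θ := by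
  rw [← cj_mul, mul_inv_cancel, cj_one]

@[simp] theorem cj_inv_cj (θ : H → ℂ) (g : G) : E.cj (E.cj θ g⁻¹) g = θ := by
  rw [← cj_mul, inv_mul_cancel, cj_one]

@[simp] theorem cj_apply_one (θ : H → ℂ) (g : G) : E.cj θ g 1 = θ 1 := by simp [cj]

@[simp] theorem cj_const (c : ℂ) (g : G) : E.cj (fun _ => c) g = fun _ => c := rfl

theorem cj_injective (g : G) : Function.Injective (fun θ => E.cj θ g) := by
  intro a b h
  have := congrArg (fun θ => E.cj θ g⁻¹) h
  simpa using this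

theorem cj_eq_one_iff {θ : H → ℂ} {g : G} : E.cj θ g = (fun _ => 1) ↔ θ = fun _ => 1 :=
  ⟨fun h => E.cj_injective g h, fun h => by rw [h]; rfl⟩

theorem conjFun_cj (θ : H → ℂ) (g : G) : conjFun (E.cj θ g) = E.cj (conjFun θ) g := rfl

theorem cj_f {θ : H → ℂ} (hθ : IsClassFunction H θ) (k : H) : E.cj θ (E.f k) = θ := by
  funext h; rw [cj_apply, act_f, hθ]

theorem cj_res {χ : G → ℂ} (hχ : IsClassFunction G χ) (g : G) :
    E.cj (fun h => χ (E.f h)) g = fun h => χ (E.f h) := by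
  funext h; rw [cj_apply, map_act, hχ]

theorem isClassFunction_cj {θ : H → ℂ} (hθ : IsClassFunction H θ) (g : G) :
    IsClassFunction H (E.cj θ g) := hθ.comp (E.act g).toMonoidHom

theorem isCharacter_cj {θ : H → ℂ} (hθ : IsCharacter H θ) (g : G) :
    IsCharacter H (E.cj θ g) := hθ.comp (E.act g).toMonoidHom

theorem isIrr_cj [Finite H] {θ : H → ℂ} (hθ : IsIrrCharacter H θ) (g : G) :
    IsIrrCharacter H (E.cj θ g) := hθ.comp_equiv (E.act g)

/-- The inertia group. -/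
def inertia (θ : H → ℂ) : Subgroup G where
  carrier := {g | E.cj θ g = θ}
  one_mem' := E.cj_one θ
  mul_mem' := by
    intro a b ha hb
    change E.cj θ (a * b) = θ
    rw [cj_mul, show E.cj θ a = θ from ha, show E.cj θ b = θ from hb]
  inv_mem' := by
    intro a ha
    change E.cj θ a⁻¹ = θ
    nth_rewrite 1 [← show E.cj θ a = θ from ha]
    exact E.cj_cj_inv θ a

theorem mem_inertia {θ : H → ℂ} {g : G} : g ∈ E.inertia θ ↔ E.cj θ g = θ := Iff.rfl

theorem mem_inertia' {θ : H → ℂ} {g : G} : g ∈ E.inertia θ ↔ ∀ h, θ (E.act g h) = θ h :=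
  funext_iff

theorem range_le_inertia {θ : H → ℂ} (hθ : IsClassFunction H θ) : E.f.range ≤ E.inertia θ := by
  rintro _ ⟨k, rfl⟩; exact E.cj_f hθ k

theorem card_cj_eq (θ : H → ℂ) (y : G) :
    Nat.card {x : G // E.cj θ x = E.cj θ y} = Nat.card (E.inertia θ) := by
  refine Nat.card_congr ⟨fun x => ⟨x.1 * y⁻¹, ?_⟩, fun z => ⟨z.1 * y, ?_⟩, ?_, ?_⟩
  · rw [mem_inertia, cj_mul, x.2, cj_cj_inv]
  · rw [cj_mul, z.2]
  · intro x; simp
  · intro z; simp

theorem card_inertia_cj (θ : H → ℂ) (y : G) :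
    Nat.card (E.inertia (E.cj θ y)) = Nat.card (E.inertia θ) := by
  rw [← E.card_cj_eq θ y]
  refine Nat.card_congr ⟨fun x => ⟨y * x.1, ?_⟩, fun z => ⟨y⁻¹ * z.1, ?_⟩, ?_, ?_⟩
  · rw [cj_mul, x.2]
  · rw [mem_inertia, ← cj_mul, mul_inv_cancel_left, z.2]
  · intro x; simp
  · intro z; simp

theorem card_range [Finite H] : Nat.card E.f.range = Nat.card H :=
  (Nat.card_congr (MonoidHom.ofInjective E.inj).toEquiv).symm

variable [Fintype G] [Fintype H]

theorem ci_cj_cj (θ φ : H → ℂ) (g : G) : ⟪E.cj θ g, E.cj φ g⟫ = ⟪θ, φ⟫ :=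
  ci_comp_equiv (E.act g).toEquiv θ φ

theorem ci_res_cj {χ : G → ℂ} (hχ : IsClassFunction G χ) (θ : H → ℂ) (g : G) :
    ⟪(fun h => χ (E.f h)), E.cj θ g⟫ = ⟪(fun h => χ (E.f h)), θ⟫ := by
  rw [← E.ci_cj_cj _ θ g, E.cj_res hχ]

theorem ind_apply_f (θ : H → ℂ) (h : H) :
    ind E.f θ (E.f h) = (Nat.card H : ℂ)⁻¹ * ∑ x : G, E.cj θ x h := by
  classical
  simp only [ind]
  congr 1
  refine Fintype.sum_equiv (Equiv.inv G) _ _ fun x => ?_
  rw [Finset.sum_eq_single (E.act x⁻¹ h)]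
  · rw [if_pos (by rw [map_act, inv_inv])]; rfl
  · intro b _ hb
    rw [if_neg]
    intro e; apply hb; apply E.inj; rw [e, map_act, inv_inv]
  · simp

theorem res_ind (θ : H → ℂ) :
    (fun h => ind E.f θ (E.f h)) = (Nat.card H : ℂ)⁻¹ • ∑ x : G, E.cj θ x := by
  funext h; simp [ind_apply_f, Finset.sum_apply]

theorem ind_apply_of_not_mem (θ : H → ℂ) {g : G} (hg : g ∉ E.f.range) : ind E.f θ g = 0 :=
  ind_eq_zero_of_forall fun x a e => absurd ⟨E.act x a, by rw [map_act, e]; group⟩ hg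

theorem ind_cj (θ : H → ℂ) (g : G) : ind E.f (E.cj θ g) = ind E.f θ :=
  (isClassFunction_ind _ _).ext_irr (isClassFunction_ind _ _) fun χ hχ => by
    rw [ci_ind_left _ _ hχ.isClassFunction, ci_ind_left _ _ hχ.isClassFunction,
      ← E.ci_cj_cj θ _ g, E.cj_res hχ.isClassFunction]

theorem ci_ind_ind (θ φ : H → ℂ) :
    ⟪ind E.f θ, ind E.f φ⟫ = (Nat.card H : ℂ)⁻¹ * ∑ x : G, ⟪θ, E.cj φ x⟫ := by
  rw [ci_ind_left _ _ (isClassFunction_ind _ _), res_ind, ci_smul_right, ci_sum_right]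
  simp

theorem sum_ci_cj_of_eq {θ : H → ℂ} (hθ : IsIrrCharacter H θ) (y : G) :
    ∑ x : G, ⟪E.cj θ x, E.cj θ y⟫ = Nat.card (E.inertia θ) := by
  classical
  rw [← E.card_cj_eq θ y, natCard_subtype_eq_sum_ite]
  exact Finset.sum_congr rfl fun x _ => (E.isIrr_cj hθ x).ci_eq_ite (E.isIrr_cj hθ y)

theorem sum_ci_cj_of_ne {θ φ : H → ℂ} (hθ : IsIrrCharacter H θ) (hφ : IsIrrCharacter H φ)
    (h : ¬ ∃ y, φ = E.cj θ y) : ∑ x : G, ⟪E.cj θ x, φ⟫ = 0 :=
  Finset.sum_eq_zero fun x _ => (E.isIrr_cj hθ x).ci_of_ne hφ fun e => h ⟨x, e.symm⟩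

theorem ci_ind_ind_self {θ : H → ℂ} (hθ : IsIrrCharacter H θ) :
    ⟪ind E.f θ, ind E.f θ⟫ = (Nat.card (E.inertia θ) : ℂ) / Nat.card H := by
  rw [← ci_conj_symm, ci_ind_ind, map_mul, map_sum]
  simp only [ci_conj_symm]
  have := E.sum_ci_cj_of_eq hθ 1
  rw [cj_one] at this
  rw [this]; simp [div_eq_inv_mul]

theorem ci_ind_ind_of_ne {θ φ : H → ℂ} (hθ : IsIrrCharacter H θ) (hφ : IsIrrCharacter H φ)
    (h : ¬ ∃ y, φ = E.cj θ y) : ⟪ind E.f φ, ind E.f θ⟫ = 0 := by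
  rw [← ci_conj_symm, ← ci_conj_symm, Complex.conj_conj, ci_ind_ind, ← Complex.conj_conj (∑ _, _),
    map_sum]
  simp only [ci_conj_symm]
  rw [E.sum_ci_cj_of_ne hθ hφ h]; simp

theorem ind_eq_or_ci_eq_zero {θ φ : H → ℂ} (hθ : IsIrrCharacter H θ) (hφ : IsIrrCharacter H φ) :
    ind E.f φ = ind E.f θ ∨ ⟪ind E.f φ, ind E.f θ⟫ = 0 := by
  by_cases h : ∃ y, φ = E.cj θ y
  · obtain ⟨y, rfl⟩ := h; exact Or.inl (E.ind_cj θ y)
  · exact Or.inr (E.ci_ind_ind_of_ne hθ hφ h)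

theorem ind_ne_zero {θ : H → ℂ} (hθ : θ 1 ≠ 0) : ind E.f θ ≠ 0 := by
  intro h
  have := congrFun h 1
  rw [ind_apply_one E.inj] at this
  exact mul_ne_zero (div_ne_zero (card_ne_zero_complex G) (card_ne_zero_complex H)) hθ this

theorem exists_cj_of_ind_eq {θ φ : H → ℂ} (hθ : IsIrrCharacter H θ) (hφ : IsIrrCharacter H φ)
    (h : ind E.f φ = ind E.f θ) : ∃ y, φ = E.cj θ y := by
  by_contra hcon
  have := E.ci_ind_ind_of_ne hθ hφ hcon
  rw [h, ci_self_eq_zero] at this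
  exact E.ind_ne_zero hθ.apply_one_ne_zero this

theorem isIrr_ind {θ : H → ℂ} (hθ : IsIrrCharacter H θ) (h : E.inertia θ ≤ E.f.range) :
    IsIrrCharacter G (ind E.f θ) := by
  refine (hθ.isCharacter.ind _).isIrr_of_ci_self ?_
  rw [E.ci_ind_ind_self hθ, le_antisymm h (E.range_le_inertia hθ.isClassFunction), card_range,
    div_self (card_ne_zero_complex H)]

theorem inertia_eq_of_isIrr_ind {θ : H → ℂ} (hθ : IsIrrCharacter H θ)
    (h : IsIrrCharacter G (ind E.f θ)) : E.inertia θ = E.f.range := by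
  have h1 := h.ci_self
  rw [E.ci_ind_ind_self hθ, div_eq_one_iff_eq (card_ne_zero_complex H), ← card_range E] at h1
  symm
  apply Subgroup.eq_of_le_of_card_ge (E.range_le_inertia hθ.isClassFunction)
  exact le_of_eq (by exact_mod_cast h1)

/-- Clifford: two constituents of the restriction of an irreducible character are conjugate. -/
theorem exists_cj_of_ci_res {χ : G → ℂ} (hχ : IsIrrCharacter G χ) {θ φ : H → ℂ}
    (hθ : IsIrrCharacter H θ) (hφ : IsIrrCharacter H φ) (h1 : ⟪(fun h => χ (E.f h)), θ⟫ ≠ 0)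
    (h2 : ⟪(fun h => χ (E.f h)), φ⟫ ≠ 0) : ∃ y, φ = E.cj θ y := by
  by_contra hcon
  have h3 := E.ci_ind_ind_of_ne hθ hφ hcon
  rw [← ci_ind_right _ hχ.isClassFunction] at h1 h2
  have h1' : ⟪ind E.f θ, χ⟫ ≠ 0 := fun e => h1 (ci_eq_zero_symm e)
  have h2' : ⟪ind E.f φ, χ⟫ ≠ 0 := fun e => h2 (ci_eq_zero_symm e)
  have h4 := (hθ.isCharacter.ind E.f).sub_irr hχ h1'
  obtain ⟨n, hn⟩ := (hφ.isCharacter.ind E.f).ci_nat h4
  obtain ⟨m, hm⟩ := (hφ.isCharacter.ind E.f).ci_irr_nat hχ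
  rw [ci_sub_right, h3, hm] at hn
  have h5 : (m : ℂ) + n = 0 := by linear_combination -hn
  have h6 : m + n = 0 := by exact_mod_cast h5
  rw [hm] at h2'
  exact h2' (by exact_mod_cast (by omega : m = 0))

/-- Clifford's theorem. -/
theorem clifford {χ : G → ℂ} (hχ : IsIrrCharacter G χ) {θ : H → ℂ}
    (hθ : IsIrrCharacter H θ) (h1 : ⟪(fun h => χ (E.f h)), θ⟫ ≠ 0) :
    (Nat.card (E.inertia θ) : ℂ) • (fun h => χ (E.f h)) =
      ⟪(fun h => χ (E.f h)), θ⟫ • ∑ x : G, E.cj θ x := by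
  refine ((hχ.isClassFunction.comp E.f).smul _).ext_irr
    ((isClassFunction_sum _ _ fun x _ => E.isClassFunction_cj hθ.isClassFunction x).smul _)
    fun φ hφ => ?_
  rw [ci_smul_left, ci_smul_left, ci_sum_left]
  by_cases h : ∃ y, φ = E.cj θ y
  · obtain ⟨y, rfl⟩ := h
    rw [E.sum_ci_cj_of_eq hθ, E.ci_res_cj hχ.isClassFunction, mul_comm]
  · rw [E.sum_ci_cj_of_ne hθ hφ h, mul_zero]
    have : ⟪(fun h => χ (E.f h)), φ⟫ = 0 := by
      by_contra h2; exact h (E.exists_cj_of_ci_res hχ hθ hφ h1 h2)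
    rw [this, mul_zero]

theorem clifford_degree {χ : G → ℂ} (hχ : IsIrrCharacter G χ) {θ : H → ℂ}
    (hθ : IsIrrCharacter H θ) (h1 : ⟪(fun h => χ (E.f h)), θ⟫ ≠ 0) :
    χ 1 = ⟪(fun h => χ (E.f h)), θ⟫ * (E.inertia θ).index * θ 1 := by
  have := congrFun (E.clifford hχ hθ h1) 1
  simp only [Pi.smul_apply, map_one, smul_eq_mul, Finset.sum_apply, cj_apply_one, Finset.sum_const,
    Finset.card_univ, ← Nat.card_eq_fintype_card, nsmul_eq_mul] at this
  rw [← (E.inertia θ).card_mul_index, Nat.cast_mul] at this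
  apply mul_left_cancel₀ (card_ne_zero_complex (E.inertia θ))
  rw [this]; ring

theorem clifford_invariant {χ : G → ℂ} (hχ : IsIrrCharacter G χ) {θ : H → ℂ}
    (hθ : IsIrrCharacter H θ) (h1 : ⟪(fun h => χ (E.f h)), θ⟫ ≠ 0) (hinv : ∀ g, E.cj θ g = θ) :
    (fun h => χ (E.f h)) = ⟪(fun h => χ (E.f h)), θ⟫ • θ := by
  have := E.clifford hχ hθ h1
  have h2 : E.inertia θ = ⊤ := eq_top_iff.2 fun g _ => hinv g
  simp only [hinv, h2, Subgroup.card_top, Finset.sum_const, Finset.card_univ,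
    ← Nat.card_eq_fintype_card, ← Nat.cast_smul_eq_nsmul ℂ] at this
  rw [smul_comm] at this
  exact smul_right_injective _ (card_ne_zero_complex G) this

theorem res_ind_invariant {θ : H → ℂ} (hinv : ∀ g, E.cj θ g = θ) :
    (fun h => ind E.f θ (E.f h)) = ((Nat.card G : ℂ) / Nat.card H) • θ := by
  rw [res_ind]
  simp only [hinv, Finset.sum_const, Finset.card_univ, ← Nat.card_eq_fintype_card,
    ← Nat.cast_smul_eq_nsmul ℂ, smul_smul, div_eq_inv_mul]

/-- Every irreducible character of `G` lies over some irreducible character of `H`. -/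
theorem exists_ci_res_ne_zero {χ : G → ℂ} (hχ : IsIrrCharacter G χ) :
    ∃ θ, IsIrrCharacter H θ ∧ ⟪(fun h => χ (E.f h)), θ⟫ ≠ 0 := by
  refine (hχ.isCharacter.comp E.f).exists_irr_ci_ne_zero fun h => ?_
  have := congrFun h 1
  simp only [map_one, Pi.zero_apply] at this
  exact hχ.apply_one_ne_zero this

/-- If a constituent of the restriction induces irreducibly, it induces the character. -/
theorem eq_ind_of_ci_res {χ : G → ℂ} (hχ : IsIrrCharacter G χ) {θ : H → ℂ}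
    (hirr : IsIrrCharacter G (ind E.f θ)) (h1 : ⟪(fun h => χ (E.f h)), θ⟫ ≠ 0) :
    χ = ind E.f θ := by
  rw [← ci_ind_right _ hχ.isClassFunction] at h1
  exact hχ.eq_of_ci_ne_zero hirr h1

theorem ind_one_eq_sum : ind E.f (fun _ => 1) = ∑ χ ∈ IrrKer E.f.range, χ 1 • χ := by
  have := E.range_normal
  have := Fintype.ofFinite E.f.range
  rw [← indFun_one_eq_sum, indFun_eq_ind,
    ← ind_comp_equiv E.f.range.subtype (MonoidHom.ofInjective E.inj) (fun _ => 1)]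
  rfl

/-- The induced character of an invariant-kernel: kernels of `θ` and of the induced character. -/
theorem ind_apply_eq_of_forall {θ : H → ℂ} {a : H} (h : ∀ x, E.cj θ x a = θ 1) :
    ind E.f θ (E.f a) = ind E.f θ 1 := by
  rw [← map_one E.f, ind_apply_f, ind_apply_f]
  simp [h]

theorem apply_eq_of_ind_apply_eq {θ : H → ℂ} (hθ : IsIrrCharacter H θ) {a : H}
    (h : ind E.f θ (E.f a) = ind E.f θ 1) : θ a = θ 1 := by
  refine ((hθ.isCharacter.ind E.f).comp E.f).apply_eq_of_ci_ne_zero hθ ?_ (by simpa using h)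
  rw [← ci_ind_right _ (isClassFunction_ind _ _), Ne, ci_self_eq_zero]
  exact E.ind_ne_zero hθ.apply_one_ne_zero

/-- Constituents of the character induced from an invariant irreducible character when the
quotient is abelian. -/
theorem exists_linear_of_abelian {θ : H → ℂ} (hθ : IsIrrCharacter H θ) (hinv : ∀ g, E.cj θ g = θ)
    (hab : ∀ x y : G, x * y * x⁻¹ * y⁻¹ ∈ E.f.range) {ψ ψ' : G → ℂ} (hψ : IsIrrCharacter G ψ)
    (hψ' : IsIrrCharacter G ψ') (h1 : ⟪(fun h => ψ (E.f h)), θ⟫ ≠ 0)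
    (h2 : ⟪(fun h => ψ' (E.f h)), θ⟫ ≠ 0) :
    ∃ l : G →* ℂˣ, (∀ h, l (E.f h) = 1) ∧ ψ' = fun g => (l g : ℂ) * ψ g := by
  have h3 := E.clifford_invariant hψ hθ h1 hinv
  have h4 := ind_mul_comp E.f (fun _ => 1) hψ.isClassFunction
  have h5 : ((fun _ => 1 : H → ℂ) * fun h => ψ (E.f h)) = ⟪(fun h => ψ (E.f h)), θ⟫ • θ := by
    rw [← h3]; funext h; simp
  rw [h5, ind_smul, ind_one_eq_sum, Finset.sum_mul] at h4
  have h6 := congrArg (fun φ => ⟪ψ', φ⟫) h4
  simp only [ci_smul_right, ci_ind_right _ hψ'.isClassFunction, ci_sum_right] at h6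
  have h7 := h6 ▸ mul_ne_zero ((map_ne_zero (starRingEnd ℂ)).2 h1) h2
  obtain ⟨l, hl, h8⟩ := Finset.exists_ne_zero_of_sum_ne_zero h7
  obtain ⟨hl, hl'⟩ := mem_IrrKer.1 hl
  have h9 := hl.degree_one_of_commutators fun x y => hl' _ (hab x y)
  obtain ⟨l, rfl⟩ := hl.isCharacter.exists_hom_of_degree_one h9
  refine ⟨l, fun h => ?_, ?_⟩
  · have := hl' _ ⟨h, rfl⟩
    simpa using this
  · refine hψ'.eq_of_ci_ne_zero (hψ.unitsHom_mul l) ?_
    simp only [map_one, Units.val_one, one_smul] at h8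
    exact h8

theorem ind_eq_of_abelian {θ : H → ℂ} (hθ : IsIrrCharacter H θ) (hinv : ∀ g, E.cj θ g = θ)
    (hab : ∀ x y : G, x * y * x⁻¹ * y⁻¹ ∈ E.f.range) :
    ∃ (e : ℕ) (C : Finset (G → ℂ)), 0 < e ∧ (∀ ψ, ψ ∈ C ↔ IsIrrCharacter G ψ ∧
      ⟪(fun h => ψ (E.f h)), θ⟫ ≠ 0) ∧ (∀ ψ ∈ C, (fun h => ψ (E.f h)) = (e : ℂ) • θ) ∧
      ind E.f θ = (e : ℂ) • ∑ ψ ∈ C, ψ ∧ e ^ 2 * C.card * Nat.card H = Nat.card G := by
  classical
  obtain ⟨ψ₀, hψ₀, h0⟩ := (hθ.isCharacter.ind E.f).exists_irr_ci_ne_zero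
    (E.ind_ne_zero hθ.apply_one_ne_zero)
  have h0' : ⟪(fun h => ψ₀ (E.f h)), θ⟫ ≠ 0 := by
    rw [← ci_ind_right _ hψ₀.isClassFunction]; exact fun e => h0 (ci_eq_zero_symm e)
  obtain ⟨e, he⟩ := (hψ₀.isCharacter.comp E.f).ci_irr_nat hθ
  have hepos : 0 < e := Nat.pos_of_ne_zero (by rintro rfl; exact h0' (by simpa using he))
  let C := (Irr G).filter (fun ψ => ⟪(fun h => ψ (E.f h)), θ⟫ ≠ 0)
  have hC : ∀ ψ, ψ ∈ C ↔ IsIrrCharacter G ψ ∧ ⟪(fun h => ψ (E.f h)), θ⟫ ≠ 0 := by simp [C]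
  have hres : ∀ ψ ∈ C, (fun h => ψ (E.f h)) = (e : ℂ) • θ := by
    intro ψ hψ
    obtain ⟨hψ, hψ'⟩ := (hC ψ).1 hψ
    obtain ⟨l, hl, rfl⟩ := E.exists_linear_of_abelian hθ hinv hab hψ₀ hψ h0' hψ'
    rw [← he, ← E.clifford_invariant hψ₀ hθ h0' hinv]
    simp [hl]
  have hind : ind E.f θ = (e : ℂ) • ∑ ψ ∈ C, ψ := by
    rw [(isClassFunction_ind E.f θ).eq_sum_irr, Finset.smul_sum, Finset.sum_filter]
    refine Finset.sum_congr rfl fun ψ hψ => ?_
    rw [← ci_conj_symm, ci_ind_right _ (mem_Irr.1 hψ).isClassFunction]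
    split_ifs with h
    · rw [hres ψ ((hC ψ).2 ⟨mem_Irr.1 hψ, h⟩), ci_smul_left, hθ.ci_self]; simp
    · rw [not_not.1 h]; simp
  refine ⟨e, C, hepos, hC, hres, hind, ?_⟩
  have h1 := congrFun hind 1
  rw [ind_apply_one E.inj] at h1
  have h2 : ∀ ψ ∈ C, ψ 1 = e * θ 1 := fun ψ hψ => by simpa using congrFun (hres ψ hψ) 1
  simp only [Pi.smul_apply, Finset.sum_apply, smul_eq_mul, Finset.sum_congr rfl h2,
    Finset.sum_const, nsmul_eq_mul] at h1
  have h3 := card_ne_zero_complex H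
  have h4 := hθ.apply_one_ne_zero
  field_simp at h1
  have : ((e ^ 2 * C.card * Nat.card H : ℕ) : ℂ) = Nat.card G := by
    push_cast; rw [h1]; ring
  exact_mod_cast this

end NormalEmb

/-! ### The Clifford correspondence -/

section Correspondence

variable {G : Type u} [Group G] [Fintype G] (N : Subgroup G) [hN : N.Normal] [Fintype N]

theorem ofNormal_cj (θ : N → ℂ) (g : G) :
    (NormalEmb.ofNormal N).cj θ g = fun h : N => θ ⟨g * h * g⁻¹, hN.conj_mem h h.2 g⟩ := rfl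

theorem indFun_eq_ind_ofNormal (θ : N → ℂ) : indFun N θ = ind (NormalEmb.ofNormal N).f θ :=
  indFun_eq_ind N θ

theorem ofNormal_range : (NormalEmb.ofNormal N).f.range = N := N.range_subtype

theorem clifford_correspondence {θ : N → ℂ} (hθ : IsIrrCharacter N θ) (T : Subgroup G)
    [Fintype T] (hT : T = (NormalEmb.ofNormal N).inertia θ) (hNT : N ≤ T) {ψ : T → ℂ}
    (hψ : IsIrrCharacter T ψ) (h : ⟪(fun n : N => ψ (Subgroup.inclusion hNT n)), θ⟫ ≠ 0) :
    IsIrrCharacter G (indFun T ψ) ∧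
      ⟪(fun n : N => indFun T ψ n), θ⟫ = ⟪(fun n : N => ψ (Subgroup.inclusion hNT n)), θ⟫ := by
  let E := NormalEmb.ofNormal N
  let E' := NormalEmb.ofLe N T hNT
  have hinv : ∀ t : T, E'.cj θ t = θ := fun t => hT.le t.2
  have h1 := congrFun (E'.clifford_invariant hψ hθ h hinv) 1
  obtain ⟨f, hf⟩ := (hψ.isCharacter.comp E'.f).ci_irr_nat hθ
  have hΦ := hψ.isCharacter.indFun
  have hΦ1 : indFun T ψ 1 = T.index * (f * θ 1) := by
    rw [indFun_apply_one, ← hf]; congr 1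
  obtain ⟨χ, hχ, h2⟩ := hΦ.exists_irr_ci_ne_zero (fun e => by
    have := congrFun e 1
    rw [indFun_apply_one] at this
    exact mul_ne_zero (by exact_mod_cast T.index_ne_zero_of_finite) hψ.apply_one_ne_zero this)
  have h3 : ⟪(fun t : T => χ t), ψ⟫ ≠ 0 := by
    rw [← ci_indFun_right T hχ.isClassFunction]; exact fun e => h2 (ci_eq_zero_symm e)
  obtain ⟨k, hk⟩ := (((hχ.isCharacter.restrict T).sub_irr hψ h3).comp E'.f).ci_irr_nat hθ
  have h4 : ⟪(fun n => χ (E.f n)), θ⟫ = k + f := by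
    rw [← hk, ← hf, ← ci_add_left]; congr 1; funext n; simp [E, E']
  have hfpos : f ≠ 0 := by rintro rfl; exact h (hf.trans Nat.cast_zero)
  have h5 := E.clifford_degree hχ hθ (by rw [h4]; exact_mod_cast (by omega : k + f ≠ 0))
  rw [h4, ← hT] at h5
  obtain ⟨d, hd, hd'⟩ := hθ.exists_degree
  have h6 := hΦ.degree_le_of_ci_ne_zero hχ h2
  have hi : (0 : ℝ) < T.index := by exact_mod_cast Nat.pos_of_ne_zero T.index_ne_zero_of_finite
  have hdr : (0 : ℝ) < d := by exact_mod_cast hd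
  rw [h5, hΦ1, hd'] at h6
  have h7 : k = 0 := by
    have h6' : (k + f) * T.index * d ≤ T.index * (f * d) := by
      have : (((k + f) * T.index * d : ℕ) : ℝ) ≤ (T.index * (f * d) : ℕ) := by
        rw [← Complex.natCast_re, ← Complex.natCast_re]; push_cast; exact h6
      exact_mod_cast this
    have hi' : 0 < T.index := Nat.pos_of_ne_zero T.index_ne_zero_of_finite
    by_contra hk0
    have : 0 < k * T.index * d := by positivity
    nlinarith
  subst h7
  have h8 : indFun T ψ = χ := hΦ.eq_of_degree_le hχ h2 (by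
    rw [h5, hΦ1]; apply le_of_eq; congr 1; push_cast; ring)
  rw [h8]
  exact ⟨hχ, (h4.trans (by simp)).trans hf.symm⟩

theorem clifford_correspondence_inj {θ : N → ℂ} (hθ : IsIrrCharacter N θ) (T : Subgroup G)
    [Fintype T] (hT : T = (NormalEmb.ofNormal N).inertia θ) (hNT : N ≤ T) {ψ ψ' : T → ℂ}
    (hψ : IsIrrCharacter T ψ) (hψ' : IsIrrCharacter T ψ')
    (h : ⟪(fun n : N => ψ (Subgroup.inclusion hNT n)), θ⟫ ≠ 0)
    (h' : ⟪(fun n : N => ψ' (Subgroup.inclusion hNT n)), θ⟫ ≠ 0)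
    (e : indFun T ψ = indFun T ψ') : ψ = ψ' := by
  by_contra hne
  obtain ⟨hχ, h1⟩ := clifford_correspondence N hθ T hT hNT hψ h
  have h2 : ⟪(fun t : T => indFun T ψ t), ψ⟫ ≠ 0 := by
    rw [← ci_indFun_right T hχ.isClassFunction, hχ.ci_self]; exact one_ne_zero
  have h3 : ⟪(fun t : T => indFun T ψ t) - ψ, ψ'⟫ ≠ 0 := by
    rw [ci_sub_left, hψ.ci_of_ne hψ' hne, sub_zero, ← ci_indFun_right T hχ.isClassFunction, ← e,
      hχ.ci_self]
    exact one_ne_zero
  obtain ⟨k, hk⟩ := ((((hχ.isCharacter.restrict T).sub_irr hψ h2).sub_irr hψ' h3).comp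
    (Subgroup.inclusion hNT)).ci_irr_nat hθ
  obtain ⟨f, hf⟩ := (hψ'.isCharacter.comp (Subgroup.inclusion hNT)).ci_irr_nat hθ
  have h4 : ⟪(fun n : N => indFun T ψ n), θ⟫ =
      k + ⟪(fun n : N => ψ (Subgroup.inclusion hNT n)), θ⟫ + f := by
    rw [← hk, ← hf, ← ci_add_left, ← ci_add_left]; congr 1; funext n; simp; ring
  rw [h1] at h4
  have h5 : (k : ℂ) + f = 0 := by linear_combination -h4
  have h6 : k + f = 0 := by exact_mod_cast h5
  rw [hf] at h'
  exact h' (by exact_mod_cast (by omega : f = 0))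

end Correspondence

end Cfsg.Agent.Char
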