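import Mathlib
import Cfsg.Prelude.Def_OddOrderChar

/-!
# The inner product `classInner` of complex functions on a finite group
-/

set_option autoImplicit false
set_option linter.unusedSectionVars false

namespace Cfsg.Agent.Char

open Cfsg
open scoped ComplexConjugate

/-- Notation for the inner product of two functions on a finite group. -/
scoped notation "⟪" φ ", " ψ "⟫" => Cfsg.classInner φ ψ

universe u

variable {G : Type u} [Group G] [Fintype G]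

theorem card_ne_zero_complex (G : Type u) [Finite G] [Nonempty G] : (Nat.card G : ℂ) ≠ 0 := by
  exact_mod_cast Nat.card_pos.ne'

theorem card_ne_zero_real (G : Type u) [Finite G] [Nonempty G] : (Nat.card G : ℝ) ≠ 0 := by
  exact_mod_cast Nat.card_pos.ne'

theorem card_pos_real (G : Type u) [Finite G] [Nonempty G] : (0 : ℝ) < (Nat.card G : ℝ) := by
  exact_mod_cast Nat.card_pos

theorem ci_def (φ ψ : G → ℂ) : ⟪φ, ψ⟫ = (Nat.card G : ℂ)⁻¹ * ∑ g : G, φ g * conj (ψ g) := rfl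

theorem card_mul_ci (φ ψ : G → ℂ) : (Nat.card G : ℂ) * ⟪φ, ψ⟫ = ∑ g : G, φ g * conj (ψ g) := by
  rw [ci_def, ← mul_assoc, mul_inv_cancel₀ (card_ne_zero_complex G), one_mul]

omit [Fintype G] in
theorem ci_fintype_irrel (i j : Fintype G) (φ ψ : G → ℂ) :
    @classInner G _ i φ ψ = @classInner G _ j φ ψ := by
  congr; exact Subsingleton.elim _ _

theorem ci_add_left (φ φ' ψ : G → ℂ) : ⟪φ + φ', ψ⟫ = ⟪φ, ψ⟫ + ⟪φ', ψ⟫ := by
  simp only [ci_def, Pi.add_apply, add_mul, Finset.sum_add_distrib, mul_add]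

theorem ci_add_right (φ ψ ψ' : G → ℂ) : ⟪φ, ψ + ψ'⟫ = ⟪φ, ψ⟫ + ⟪φ, ψ'⟫ := by
  simp only [ci_def, Pi.add_apply, map_add, mul_add, Finset.sum_add_distrib]

theorem ci_neg_left (φ ψ : G → ℂ) : ⟪-φ, ψ⟫ = -⟪φ, ψ⟫ := by
  simp only [ci_def, Pi.neg_apply, neg_mul, Finset.sum_neg_distrib, mul_neg]

theorem ci_neg_right (φ ψ : G → ℂ) : ⟪φ, -ψ⟫ = -⟪φ, ψ⟫ := by
  simp only [ci_def, Pi.neg_apply, map_neg, mul_neg, Finset.sum_neg_distrib]

theorem ci_sub_left (φ φ' ψ : G → ℂ) : ⟪φ - φ', ψ⟫ = ⟪φ, ψ⟫ - ⟪φ', ψ⟫ := by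
  rw [sub_eq_add_neg, ci_add_left, ci_neg_left, ← sub_eq_add_neg]

theorem ci_sub_right (φ ψ ψ' : G → ℂ) : ⟪φ, ψ - ψ'⟫ = ⟪φ, ψ⟫ - ⟪φ, ψ'⟫ := by
  rw [sub_eq_add_neg, ci_add_right, ci_neg_right, ← sub_eq_add_neg]

theorem ci_smul_left (c : ℂ) (φ ψ : G → ℂ) : ⟪c • φ, ψ⟫ = c * ⟪φ, ψ⟫ := by
  simp only [ci_def, Pi.smul_apply, smul_eq_mul, mul_assoc, ← Finset.mul_sum]
  ring

theorem ci_smul_right (c : ℂ) (φ ψ : G → ℂ) : ⟪φ, c • ψ⟫ = conj c * ⟪φ, ψ⟫ := by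
  simp only [ci_def, Pi.smul_apply, smul_eq_mul, map_mul, Finset.mul_sum]
  refine Finset.sum_congr rfl fun g _ => by ring

theorem ci_zsmul_left (n : ℤ) (φ ψ : G → ℂ) : ⟪n • φ, ψ⟫ = n * ⟪φ, ψ⟫ := by
  rw [← ci_smul_left, Int.cast_smul_eq_zsmul]

theorem ci_zsmul_right (n : ℤ) (φ ψ : G → ℂ) : ⟪φ, n • ψ⟫ = n * ⟪φ, ψ⟫ := by
  rw [← Int.cast_smul_eq_zsmul ℂ, ci_smul_right, map_intCast]

theorem ci_nsmul_left (n : ℕ) (φ ψ : G → ℂ) : ⟪n • φ, ψ⟫ = n * ⟪φ, ψ⟫ := by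
  rw [← ci_smul_left, Nat.cast_smul_eq_nsmul]

theorem ci_nsmul_right (n : ℕ) (φ ψ : G → ℂ) : ⟪φ, n • ψ⟫ = n * ⟪φ, ψ⟫ := by
  rw [← Nat.cast_smul_eq_nsmul ℂ, ci_smul_right, map_natCast]

@[simp] theorem ci_zero_left (ψ : G → ℂ) : ⟪0, ψ⟫ = 0 := by simp [ci_def]

@[simp] theorem ci_zero_right (φ : G → ℂ) : ⟪φ, 0⟫ = 0 := by simp [ci_def]

theorem ci_sum_left {ι : Type*} (s : Finset ι) (f : ι → G → ℂ) (ψ : G → ℂ) :
    ⟪∑ i ∈ s, f i, ψ⟫ = ∑ i ∈ s, ⟪f i, ψ⟫ := by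
  classical
  induction s using Finset.induction_on with
  | empty => simp
  | insert a s ha ih => rw [Finset.sum_insert ha, Finset.sum_insert ha, ci_add_left, ih]

theorem ci_sum_right {ι : Type*} (s : Finset ι) (φ : G → ℂ) (f : ι → G → ℂ) :
    ⟪φ, ∑ i ∈ s, f i⟫ = ∑ i ∈ s, ⟪φ, f i⟫ := by
  classical
  induction s using Finset.induction_on with
  | empty => simp
  | insert a s ha ih => rw [Finset.sum_insert ha, Finset.sum_insert ha, ci_add_right, ih]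

theorem ci_conj_symm (φ ψ : G → ℂ) : conj ⟪φ, ψ⟫ = ⟪ψ, φ⟫ := by
  simp only [ci_def, map_mul, map_inv₀, map_natCast, map_sum, Complex.conj_conj]
  congr 1
  exact Finset.sum_congr rfl fun g _ => mul_comm _ _

theorem ci_eq_zero_symm {φ ψ : G → ℂ} (h : ⟪φ, ψ⟫ = 0) : ⟪ψ, φ⟫ = 0 := by
  rw [← ci_conj_symm, h, map_zero]

theorem ci_eq_zero_comm {φ ψ : G → ℂ} : ⟪φ, ψ⟫ = 0 ↔ ⟪ψ, φ⟫ = 0 :=
  ⟨ci_eq_zero_symm, ci_eq_zero_symm⟩

theorem ci_symm_of_int {φ ψ : G → ℂ} {n : ℤ} (h : ⟪φ, ψ⟫ = n) : ⟪ψ, φ⟫ = n := by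
  rw [← ci_conj_symm, h, map_intCast]

theorem ci_symm_of_nat {φ ψ : G → ℂ} {n : ℕ} (h : ⟪φ, ψ⟫ = n) : ⟪ψ, φ⟫ = n := by
  rw [← ci_conj_symm, h, map_natCast]

theorem ci_symm_of_real {φ ψ : G → ℂ} {r : ℝ} (h : ⟪φ, ψ⟫ = r) : ⟪ψ, φ⟫ = r := by
  rw [← ci_conj_symm, h, Complex.conj_ofReal]

theorem ci_mul_left (φ θ ψ : G → ℂ) : ⟪φ * θ, ψ⟫ = ⟪φ, conjFun θ * ψ⟫ := by
  simp only [ci_def, Pi.mul_apply, conjFun, map_mul, Complex.conj_conj, mul_assoc]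

theorem ci_conjFun (φ ψ : G → ℂ) : ⟪conjFun φ, conjFun ψ⟫ = conj ⟪φ, ψ⟫ := by
  simp only [ci_def, conjFun, map_mul, map_inv₀, map_natCast, map_sum]

theorem ci_conjFun' (φ ψ : G → ℂ) : ⟪conjFun φ, conjFun ψ⟫ = ⟪ψ, φ⟫ := by
  rw [ci_conjFun, ci_conj_symm]

/-- The squared norm as a real number. -/
noncomputable def nsq (φ : G → ℂ) : ℝ := (Nat.card G : ℝ)⁻¹ * ∑ g : G, ‖φ g‖ ^ 2

theorem ci_self (φ : G → ℂ) : ⟪φ, φ⟫ = (nsq φ : ℂ) := by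
  simp only [ci_def, nsq, Complex.mul_conj, Complex.normSq_eq_norm_sq]
  push_cast
  rfl

theorem ci_self_re (φ : G → ℂ) : (⟪φ, φ⟫).re = nsq φ := by
  rw [ci_self, Complex.ofReal_re]

theorem nsq_nonneg (φ : G → ℂ) : 0 ≤ nsq φ :=
  mul_nonneg (inv_nonneg.2 (Nat.cast_nonneg _)) (Finset.sum_nonneg fun _ _ => sq_nonneg _)

theorem nsq_eq_zero {φ : G → ℂ} : nsq φ = 0 ↔ φ = 0 := by
  constructor
  · intro h
    unfold nsq at h
    rcases mul_eq_zero.1 h with h | h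
    · exact absurd (inv_eq_zero.1 h) (card_ne_zero_real G)
    · rw [Finset.sum_eq_zero_iff_of_nonneg (fun _ _ => sq_nonneg _)] at h
      funext g
      simpa using h g (Finset.mem_univ g)
  · rintro rfl; simp [nsq]

theorem nsq_pos {φ : G → ℂ} (h : φ ≠ 0) : 0 < nsq φ :=
  lt_of_le_of_ne (nsq_nonneg φ) (fun h' => h (nsq_eq_zero.1 h'.symm))

theorem ci_self_eq_zero {φ : G → ℂ} : ⟪φ, φ⟫ = 0 ↔ φ = 0 := by
  rw [ci_self, Complex.ofReal_eq_zero, nsq_eq_zero]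

theorem nsq_add (φ ψ : G → ℂ) : nsq (φ + ψ) = nsq φ + nsq ψ + 2 * (⟪φ, ψ⟫).re := by
  have h := ci_self_re (φ + ψ)
  rw [ci_add_left, ci_add_right, ci_add_right, ← ci_conj_symm φ ψ] at h
  simp only [Complex.add_re, ci_self_re, Complex.conj_re] at h
  linarith

theorem nsq_neg (φ : G → ℂ) : nsq (-φ) = nsq φ := by simp [nsq]

theorem nsq_sub (φ ψ : G → ℂ) : nsq (φ - ψ) = nsq φ + nsq ψ - 2 * (⟪φ, ψ⟫).re := by
  rw [sub_eq_add_neg, nsq_add, nsq_neg, ci_neg_right]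
  simp; ring

theorem nsq_smul (c : ℂ) (φ : G → ℂ) : nsq (c • φ) = ‖c‖ ^ 2 * nsq φ := by
  simp only [nsq, Pi.smul_apply, smul_eq_mul, norm_mul, mul_pow, ← Finset.mul_sum]
  ring

theorem nsq_zsmul (c : ℤ) (φ : G → ℂ) : nsq (c • φ) = (c : ℝ) ^ 2 * nsq φ := by
  rw [← Int.cast_smul_eq_zsmul ℂ, nsq_smul, Complex.norm_intCast, sq_abs]

theorem nsq_add_of_orth {φ ψ : G → ℂ} (h : ⟪φ, ψ⟫ = 0) : nsq (φ + ψ) = nsq φ + nsq ψ := by
  rw [nsq_add, h]; simp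

theorem nsq_sub_of_orth {φ ψ : G → ℂ} (h : ⟪φ, ψ⟫ = 0) : nsq (φ - ψ) = nsq φ + nsq ψ := by
  rw [nsq_sub, h]; simp

theorem nsq_conjFun (φ : G → ℂ) : nsq (conjFun φ) = nsq φ := by
  simp [nsq, conjFun]

theorem nsq_eq_of_ci {φ : G → ℂ} {r : ℝ} (h : ⟪φ, φ⟫ = r) : nsq φ = r := by
  rw [ci_self] at h; exact_mod_cast h

theorem ci_one_one : ⟪(fun _ => 1 : G → ℂ), fun _ => 1⟫ = 1 := by
  simp [ci_def, card_ne_zero_complex G, ← Nat.card_eq_fintype_card]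

theorem ci_one_right (φ : G → ℂ) : ⟪φ, fun _ => 1⟫ = (Nat.card G : ℂ)⁻¹ * ∑ g, φ g := by
  simp [ci_def]

/-- Transport of the inner product along a bijection of groups. -/
theorem ci_comp_equiv {H : Type*} [Group H] [Fintype H] (e : H ≃ G) (φ ψ : G → ℂ) :
    ⟪φ ∘ e, ψ ∘ e⟫ = ⟪φ, ψ⟫ := by
  simp only [ci_def, Function.comp_apply, Nat.card_congr e]
  congr 1
  exact Equiv.sum_comp e (fun g => φ g * conj (ψ g))

/-- Cauchy-Schwarz. -/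
theorem norm_ci_sq_le (φ ψ : G → ℂ) : ‖⟪φ, ψ⟫‖ ^ 2 ≤ nsq φ * nsq ψ := by
  by_cases hψ : ψ = 0
  · simp [hψ, nsq]
  have hpos := nsq_pos hψ
  set c : ℂ := ⟪φ, ψ⟫ / (nsq ψ : ℂ) with hc
  have h := nsq_nonneg (φ - c • ψ)
  rw [nsq_sub, nsq_smul, ci_smul_right] at h
  have h1 : (conj c * ⟪φ, ψ⟫).re = ‖⟪φ, ψ⟫‖ ^ 2 / nsq ψ := by
    rw [hc, map_div₀, Complex.conj_ofReal, div_mul_eq_mul_div, mul_comm, Complex.mul_conj,
      Complex.normSq_eq_norm_sq]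
    norm_cast
  have h2 : ‖c‖ ^ 2 * nsq ψ = ‖⟪φ, ψ⟫‖ ^ 2 / nsq ψ := by
    rw [hc, norm_div, Complex.norm_real, Real.norm_of_nonneg hpos.le]
    field_simp
  rw [h1, h2] at h
  have h3 : ‖⟪φ, ψ⟫‖ ^ 2 / nsq ψ ≤ nsq φ := by linarith
  rwa [div_le_iff₀ hpos] at h3

omit [Group G] [Fintype G] in
@[simp] theorem conjFun_apply (φ : G → ℂ) (g : G) : conjFun φ g = conj (φ g) := rfl

omit [Group G] [Fintype G] in
@[simp] theorem conjFun_conjFun (φ : G → ℂ) : conjFun (conjFun φ) = φ := by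
  funext g; simp

omit [Group G] [Fintype G] in
theorem conjFun_add (φ ψ : G → ℂ) : conjFun (φ + ψ) = conjFun φ + conjFun ψ := by
  funext g; simp

omit [Group G] [Fintype G] in
theorem conjFun_sub (φ ψ : G → ℂ) : conjFun (φ - ψ) = conjFun φ - conjFun ψ := by
  funext g; simp

omit [Group G] [Fintype G] in
theorem conjFun_neg (φ : G → ℂ) : conjFun (-φ) = -conjFun φ := by
  funext g; simp

omit [Group G] [Fintype G] in
theorem conjFun_mul (φ ψ : G → ℂ) : conjFun (φ * ψ) = conjFun φ * conjFun ψ := by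
  funext g; simp

omit [Group G] [Fintype G] in
@[simp] theorem conjFun_zero : conjFun (0 : G → ℂ) = 0 := by
  funext g; simp

omit [Group G] [Fintype G] in
@[simp] theorem conjFun_one : conjFun (fun _ => 1 : G → ℂ) = fun _ => 1 := by
  funext g; simp

omit [Group G] [Fintype G] in
theorem conjFun_smul (c : ℂ) (φ : G → ℂ) : conjFun (c • φ) = conj c • conjFun φ := by
  funext g; simp

omit [Group G] [Fintype G] in
theorem conjFun_zsmul (c : ℤ) (φ : G → ℂ) : conjFun (c • φ) = c • conjFun φ := by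
  funext g; simp

omit [Group G] [Fintype G] in
theorem conjFun_nsmul (c : ℕ) (φ : G → ℂ) : conjFun (c • φ) = c • conjFun φ := by
  funext g; simp

omit [Group G] [Fintype G] in
theorem conjFun_sum {ι : Type*} (s : Finset ι) (f : ι → G → ℂ) :
    conjFun (∑ i ∈ s, f i) = ∑ i ∈ s, conjFun (f i) := by
  funext g; simp [Finset.sum_apply]

omit [Group G] [Fintype G] in
theorem conjFun_injective : Function.Injective (conjFun : (G → ℂ) → G → ℂ) := by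
  intro a b h
  rw [← conjFun_conjFun a, h, conjFun_conjFun]

theorem ci_conjFun_left (φ ψ : G → ℂ) : ⟪conjFun φ, ψ⟫ = conj ⟪φ, conjFun ψ⟫ := by
  rw [← ci_conjFun φ, conjFun_conjFun]

theorem ci_conjFun_right (φ ψ : G → ℂ) : ⟪φ, conjFun ψ⟫ = ⟪ψ, conjFun φ⟫ := by
  rw [← ci_conjFun' (conjFun ψ) φ, conjFun_conjFun]

/-! ### Orthonormal families -/

section Orthonormal

variable {ι : Type*}

/-- The inner product of a combination of an orthonormal family with one of its members. -/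
theorem ci_sum_smul_orthonormal [DecidableEq ι] (s : Finset ι) (e : ι → G → ℂ)
    (he : ∀ i ∈ s, ∀ j ∈ s, ⟪e i, e j⟫ = if i = j then 1 else 0) (c : ι → ℂ) {j : ι} (hj : j ∈ s) :
    ⟪∑ i ∈ s, c i • e i, e j⟫ = c j := by
  rw [ci_sum_left, Finset.sum_eq_single j]
  · rw [ci_smul_left, he j hj j hj, if_pos rfl, mul_one]
  · intro i hi hij
    rw [ci_smul_left, he i hi j hj, if_neg hij, mul_zero]
  · intro h; exact absurd hj h

theorem ci_sum_smul_sum_smul_orthonormal [DecidableEq ι] (s : Finset ι) (e : ι → G → ℂ)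
    (he : ∀ i ∈ s, ∀ j ∈ s, ⟪e i, e j⟫ = if i = j then 1 else 0) (c d : ι → ℂ) :
    ⟪∑ i ∈ s, c i • e i, ∑ i ∈ s, d i • e i⟫ = ∑ i ∈ s, c i * conj (d i) := by
  rw [ci_sum_right]
  refine Finset.sum_congr rfl fun j hj => ?_
  rw [ci_smul_right, ci_sum_smul_orthonormal s e he c hj, mul_comm]

theorem nsq_sum_smul_orthonormal [DecidableEq ι] (s : Finset ι) (e : ι → G → ℂ)
    (he : ∀ i ∈ s, ∀ j ∈ s, ⟪e i, e j⟫ = if i = j then 1 else 0) (c : ι → ℂ) :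
    nsq (∑ i ∈ s, c i • e i) = ∑ i ∈ s, ‖c i‖ ^ 2 := by
  apply nsq_eq_of_ci
  rw [ci_sum_smul_sum_smul_orthonormal s e he]
  simp only [Complex.mul_conj, Complex.normSq_eq_norm_sq]
  push_cast; rfl

/-- The part of `φ` orthogonal to an orthonormal family. -/
theorem ci_sub_proj_orthonormal [DecidableEq ι] (s : Finset ι) (e : ι → G → ℂ)
    (he : ∀ i ∈ s, ∀ j ∈ s, ⟪e i, e j⟫ = if i = j then 1 else 0) (φ : G → ℂ) {j : ι} (hj : j ∈ s) :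
    ⟪φ - ∑ i ∈ s, ⟪φ, e i⟫ • e i, e j⟫ = 0 := by
  rw [ci_sub_left, ci_sum_smul_orthonormal s e he _ hj, sub_self]

/-- Pythagoras for the projection on an orthonormal family. -/
theorem nsq_eq_sum_add_nsq_orthonormal [DecidableEq ι] (s : Finset ι) (e : ι → G → ℂ)
    (he : ∀ i ∈ s, ∀ j ∈ s, ⟪e i, e j⟫ = if i = j then 1 else 0) (φ : G → ℂ) :
    nsq φ = ∑ i ∈ s, ‖⟪φ, e i⟫‖ ^ 2 + nsq (φ - ∑ i ∈ s, ⟪φ, e i⟫ • e i) := by
  have h : ⟪∑ i ∈ s, ⟪φ, e i⟫ • e i, φ - ∑ i ∈ s, ⟪φ, e i⟫ • e i⟫ = 0 := by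
    rw [ci_sum_left]
    refine Finset.sum_eq_zero fun i hi => ?_
    rw [ci_smul_left, ci_eq_zero_symm (ci_sub_proj_orthonormal s e he φ hi), mul_zero]
  rw [← nsq_sum_smul_orthonormal s e he, ← nsq_add_of_orth h, add_sub_cancel]

/-- Bessel's inequality. -/
theorem bessel_orthonormal [DecidableEq ι] (s : Finset ι) (e : ι → G → ℂ)
    (he : ∀ i ∈ s, ∀ j ∈ s, ⟪e i, e j⟫ = if i = j then 1 else 0) (φ : G → ℂ) :
    ∑ i ∈ s, ‖⟪φ, e i⟫‖ ^ 2 ≤ nsq φ := by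
  rw [nsq_eq_sum_add_nsq_orthonormal s e he φ]
  linarith [nsq_nonneg (φ - ∑ i ∈ s, ⟪φ, e i⟫ • e i)]

theorem nsq_sum_of_orth (s : Finset ι) (e : ι → G → ℂ)
    (he : ∀ i ∈ s, ∀ j ∈ s, i ≠ j → ⟪e i, e j⟫ = 0) :
    nsq (∑ i ∈ s, e i) = ∑ i ∈ s, nsq (e i) := by
  classical
  apply nsq_eq_of_ci
  rw [ci_sum_left]
  push_cast
  refine Finset.sum_congr rfl fun i hi => ?_
  rw [ci_sum_right, Finset.sum_eq_single i, ci_self]
  · intro j hj hji; exact he i hi j hj hji.symm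
  · intro h; exact absurd hi h

/-- Pairwise orthogonal nonzero functions are linearly independent. -/
theorem linearIndependent_of_orth (e : ι → G → ℂ) (hne : ∀ i, e i ≠ 0)
    (he : ∀ i j, i ≠ j → ⟪e i, e j⟫ = 0) : LinearIndependent ℂ e := by
  classical
  rw [linearIndependent_iff']
  intro s c hc j hj
  have h := congrArg (fun φ => ⟪φ, e j⟫) hc
  simp only [ci_zero_left] at h
  rw [ci_sum_left, Finset.sum_eq_single j] at h
  · rw [ci_smul_left] at h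
    rcases mul_eq_zero.1 h with h | h
    · exact h
    · exact absurd (ci_self_eq_zero.1 h) (hne j)
  · intro i _ hij
    rw [ci_smul_left, he i j hij, mul_zero]
  · intro h; exact absurd hj h

end Orthonormal

end Cfsg.Agent.Char
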